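import Mathlib

/-!
Counting conjugates of subsets which are moved into themselves only by their normaliser.
-/

set_option autoImplicit false

namespace Cfsg.Agent.Lib.ReeTori

variable {Γ : Type*} [Group Γ] [Finite Γ]

/-- The set of conjugates of the members of `S`. -/
def conjClosure (S : Set Γ) : Set Γ := {g | ∃ c : Γ, c * g * c⁻¹ ∈ S}

lemma conj_conj (a b g : Γ) : a * (b * g * b⁻¹) * a⁻¹ = a * b * g * (a * b)⁻¹ := by group

/-- `#(S^Γ) |N| = |Γ| #S` for a TI set `S` with normaliser `N`. -/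
theorem card_conjClosure (S : Set Γ) (N : Subgroup Γ) (hN : ∀ n ∈ N, ∀ x ∈ S, n * x * n⁻¹ ∈ S)
    (hTI : ∀ x ∈ S, ∀ c : Γ, c * x * c⁻¹ ∈ S → c ∈ N) :
    (conjClosure S).ncard * Nat.card N = Nat.card Γ * S.ncard := by
  classical
  let f : conjClosure S × N → Γ × S := fun p =>
    ((p.2 : Γ) * p.1.2.choose,
      ⟨(p.2 : Γ) * p.1.2.choose * p.1 * ((p.2 : Γ) * p.1.2.choose)⁻¹, by
        rw [← conj_conj]; exact hN _ p.2.2 _ p.1.2.choose_spec⟩)
  have hf : Function.Bijective f := by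
    constructor
    · rintro ⟨y, n⟩ ⟨y', n'⟩ h
      obtain ⟨h1, h2⟩ := Prod.mk.inj h
      have h3 := congrArg Subtype.val h2
      simp only at h3
      rw [h1] at h3
      have : y = y' := Subtype.ext (mul_left_cancel (mul_right_cancel h3))
      subst this
      exact Prod.ext rfl (Subtype.ext (mul_right_cancel h1))
    · rintro ⟨c, x⟩
      have hy : c⁻¹ * (x : Γ) * c ∈ conjClosure S := ⟨c, by simpa [mul_assoc] using x.2⟩
      set d := (show c⁻¹ * (x : Γ) * c ∈ conjClosure S from hy).choose with hd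
      have hd' : d * (c⁻¹ * (x : Γ) * c) * d⁻¹ ∈ S := hy.choose_spec
      have hn : d * c⁻¹ ∈ N := by
        refine hTI _ x.2 _ ?_
        simpa [mul_assoc] using hd'
      refine ⟨(⟨_, hy⟩, ⟨c * d⁻¹, by simpa using N.inv_mem hn⟩), Prod.ext ?_ (Subtype.ext ?_)⟩
      · show c * d⁻¹ * d = c
        group
      · show c * d⁻¹ * d * (c⁻¹ * (x : Γ) * c) * (c * d⁻¹ * d)⁻¹ = x
        group
  rw [← Nat.card_coe_set_eq, ← Nat.card_coe_set_eq, ← Nat.card_prod, ← Nat.card_prod]
  exact Nat.card_congr (Equiv.ofBijective f hf)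

lemma orderOf_conj (g z : Γ) : orderOf (g * z * g⁻¹) = orderOf z := by
  rw [← MulAut.conj_apply, MulEquiv.orderOf_eq]

/-- Counting the elements whose order has a property and which all fuse into `A`. -/
theorem card_order_family (A N : Subgroup Γ) (P : ℕ → Prop) (hN : ∀ n ∈ N, ∀ x ∈ A, P (orderOf x) → n * x * n⁻¹ ∈ A)
    (hcov : ∀ g : Γ, P (orderOf g) → ∃ c : Γ, c * g * c⁻¹ ∈ A)
    (hTI : ∀ x ∈ A, P (orderOf x) → ∀ c : Γ, c * x * c⁻¹ ∈ A → c ∈ N) :
    {g : Γ | P (orderOf g)}.ncard * Nat.card N = Nat.card Γ * {x : Γ | x ∈ A ∧ P (orderOf x)}.ncard := by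
  have h : {g : Γ | P (orderOf g)} = conjClosure {x : Γ | x ∈ A ∧ P (orderOf x)} := by
    ext g
    constructor
    · intro hg
      obtain ⟨c, hc⟩ := hcov g hg
      exact ⟨c, hc, by rwa [orderOf_conj]⟩
    · rintro ⟨c, -, hc⟩
      rwa [orderOf_conj] at hc
  rw [h]
  exact card_conjClosure _ N (fun n hn x hx => ⟨hN n hn x hx.1 hx.2, by rw [orderOf_conj]; exact hx.2⟩)
    (fun x hx c hc => hTI x hx.1 hx.2 c hc.1)

/-- In a cyclic subgroup there are `φ(i)` elements of order `i`. -/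
theorem card_order_cyclic (A : Subgroup Γ) [IsCyclic A] {i : ℕ} (hi : i ∣ Nat.card A) :
    {x : Γ | x ∈ A ∧ orderOf x = i}.ncard = Nat.totient i := by
  classical
  haveI := Fintype.ofFinite A
  rw [← IsCyclic.card_orderOf_eq_totient (α := A) (d := i) (by rwa [← Nat.card_eq_fintype_card]),
    ← Nat.card_coe_set_eq]
  refine (Nat.card_congr ⟨fun x => (⟨⟨x.1, x.2.1⟩, by simpa using x.2.2⟩ : {a : A // a ∈ ({a | orderOf a = i} : Finset A)}),
    fun x => ⟨x.1.1, x.1.2, (Subgroup.orderOf_coe x.1).trans (Finset.mem_filter.1 x.2).2⟩, fun x => rfl, fun x => rfl⟩).trans ?_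
  rw [Nat.card_eq_fintype_card, Fintype.card_coe]

/-- Cyclic subgroups of the same order which fuse into one cyclic subgroup are conjugate. -/
theorem eq_map_of_cyclic (T : Subgroup Γ) (hT : IsCyclic T) {A B : Subgroup Γ} (hA : A ≤ T) (hB : B ≤ T)
    (h : Nat.card A = Nat.card B) : A = B := by
  haveI := hT
  have key : ∀ A : Subgroup Γ, A ≤ T → (A : Set Γ) = {x | x ∈ T ∧ x ^ Nat.card A = 1} := by
    intro A hA
    classical
    refine Set.eq_of_subset_of_ncard_le
      (fun x hx => ⟨hA hx, congrArg Subtype.val (pow_card_eq_one' (x := (⟨x, hx⟩ : A)))⟩) ?_ (Set.toFinite _)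
    rw [← Nat.card_coe_set_eq, ← Nat.card_coe_set_eq, SetLike.coe_sort_coe]
    haveI := Fintype.ofFinite T
    refine le_trans (le_of_eq ?_) (IsCyclic.card_pow_eq_one_le (α := T) (n := Nat.card A) Nat.card_pos)
    refine (Nat.card_congr ⟨fun x => (⟨⟨x.1, x.2.1⟩, by
        rw [Finset.mem_filter]; exact ⟨Finset.mem_univ _, Subtype.ext (by rw [Subgroup.coe_pow]; exact x.2.2)⟩⟩ :
          {a : T // a ∈ ({a | a ^ Nat.card A = 1} : Finset T)}),
      fun x => ⟨x.1.1, x.1.2, by simpa using congrArg Subtype.val (Finset.mem_filter.1 x.2).2⟩,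
      fun x => rfl, fun x => rfl⟩).trans ?_
    rw [Nat.card_eq_fintype_card, Fintype.card_coe]
  exact SetLike.coe_injective (by rw [key A hA, key B hB, h])

/-- Two cyclic subgroups of order `d` are conjugate if all elements of order `d` fuse into one cyclic `T`. -/
theorem exists_conj_of_cover (T : Subgroup Γ) (hT : IsCyclic T) {d : ℕ}
    (hcov : ∀ g : Γ, orderOf g = d → ∃ c : Γ, c * g * c⁻¹ ∈ T)
    (A B : Subgroup Γ) (hA : IsCyclic A) (hB : IsCyclic B) (hAd : Nat.card A = d) (hBd : Nat.card B = d) :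
    ∃ g : Γ, B = A.map (MulAut.conj g).toMonoidHom := by
  obtain ⟨a, rfl⟩ := (Subgroup.isCyclic_iff_exists_zpowers_eq_top A).1 hA
  obtain ⟨b, rfl⟩ := (Subgroup.isCyclic_iff_exists_zpowers_eq_top B).1 hB
  rw [Nat.card_zpowers] at hAd hBd
  obtain ⟨c, hc⟩ := hcov a hAd
  obtain ⟨d', hd'⟩ := hcov b hBd
  refine ⟨d'⁻¹ * c, ?_⟩
  have h := eq_map_of_cyclic T hT (A := Subgroup.zpowers (c * a * c⁻¹)) (B := Subgroup.zpowers (d' * b * d'⁻¹))
    (Subgroup.zpowers_le.2 hc) (Subgroup.zpowers_le.2 hd') (by rw [Nat.card_zpowers, Nat.card_zpowers, orderOf_conj, orderOf_conj, hAd, hBd])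
  have h' := congrArg (Subgroup.map (MulAut.conj d'⁻¹).toMonoidHom) h
  rw [MonoidHom.map_zpowers, MonoidHom.map_zpowers] at h'
  rw [MonoidHom.map_zpowers]
  simpa [mul_assoc] using h'.symm

/-- Centralisers commute with conjugation. -/
theorem centralizer_map (φ : Γ ≃* Γ) (A : Subgroup Γ) :
    Subgroup.centralizer ((A.map φ.toMonoidHom : Subgroup Γ) : Set Γ) =
      (Subgroup.centralizer (A : Set Γ)).map φ.toMonoidHom := by
  ext z
  rw [Subgroup.mem_map_equiv, Subgroup.mem_centralizer_iff, Subgroup.mem_centralizer_iff]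
  constructor
  · intro h a ha
    apply φ.injective
    rw [map_mul, map_mul, φ.apply_symm_apply]
    exact h _ ⟨a, ha, rfl⟩
  · rintro h _ ⟨a, ha, rfl⟩
    have := congrArg φ (h a ha)
    rwa [map_mul, map_mul, φ.apply_symm_apply] at this

end Cfsg.Agent.Lib.ReeTori
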