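import Cfsg.Agent.Lib.Ree.InvolClass
import Cfsg.Agent.Lib.Ree.ThreeElts
import Cfsg.Agent.Lib.LieTwisted.ReeOutBasic
import Cfsg.Agent.Lib.ReeTori.Count

/-!
The numbers of elements of orders 2, 3, 6, 9 of the small Ree group.
-/

set_option autoImplicit false

namespace Cfsg.Agent.Lib.ReeTori

open Cfsg.Lie
open Cfsg.Agent.Lib.Ree
open Cfsg.Agent.Lib.LieTwisted Cfsg.Agent.Lib.LieTwisted.Ree

variable {K : Type*} [Field K] [CharP K 3] [Fintype K] {m : ℕ} [hF : Fact (Fintype.card K = 3 ^ (2 * m + 1))]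

local notation "Gr" => Cfsg.Agent.Lib.Ree.G K m

lemma card_split : Nat.card Gr = qq m ^ 3 * (qq m - 1) * (qq m + 1) * tT m := by rw [card_G, order_factor]

/-- The involutions. -/
theorem card_order_two (hm : 1 ≤ m) : {g : Gr | orderOf g = 2}.ncard = qq m ^ 2 * tT m := by
  have hset : {g : Gr | orderOf g = 2} = cOrb ⊤ (invA K m) := by
    ext g
    constructor
    · intro hg
      have h2 : g * g = 1 := by rw [← pow_two, ← show orderOf g = 2 from hg, pow_orderOf_eq_one]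
      have h1 : g ≠ 1 := fun h => by rw [h] at hg; simp at hg
      obtain ⟨c, hc⟩ := isConj_iff.1 (isConj_invA hm h1 h2)
      exact ⟨c, trivial, hc⟩
    · rintro ⟨c, -, rfl⟩
      show orderOf (c * invA K m * c⁻¹) = 2
      rw [ReeTori.orderOf_conj]
      exact orderOf_eq_prime (by rw [pow_two]; exact a_sq) invA_ne_one
  have h := cOrb_mul_centralizer (⊤ : Subgroup Gr) (invA K m)
  rw [top_inf_eq, Subgroup.card_top, ← hset, card_centralizer_invA, card_split] at h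
  have hpos : 0 < qq m * (qq m - 1) * (qq m + 1) := by
    have := qq_ge m
    exact Nat.mul_pos (Nat.mul_pos (by omega) (by omega)) (by omega)
  refine Nat.eq_of_mul_eq_mul_right hpos (h.trans ?_)
  ring

lemma card_B1 : Nat.card ↥(B1 (K := K) m) = qq m ^ 3 * (qq m - 1) := by
  classical
  let f : (K × K × K) × Kˣ → ↥(B1 (K := K) m) := fun p =>
    ⟨gU p.1.1 p.1.2.1 p.1.2.2 * gH p.2, mem_B1_iff.2 ⟨_, _, _, _, rfl⟩⟩
  have hf : Function.Bijective f := by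
    constructor
    · rintro ⟨⟨t, u, v⟩, y⟩ ⟨⟨t', u', v'⟩, y'⟩ h
      obtain ⟨⟨rfl, rfl, rfl⟩, rfl⟩ := small_inj (show (gU t u v * gH y : Gr) = gU t' u' v' * gH y' from
        congrArg Subtype.val h)
      rfl
    · rintro ⟨g, hg⟩
      obtain ⟨t, u, v, y, rfl⟩ := mem_B1_iff.1 hg
      exact ⟨((t, u, v), y), rfl⟩
  rw [← Nat.card_congr (Equiv.ofBijective f hf), Nat.card_prod, Nat.card_prod, Nat.card_prod, card_K (m := m),
    card_units_K (m := m)]
  ring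

lemma gU_cube_iff {t u v : K} : (gU t u v : Gr) ^ 3 = 1 ↔ t = 0 := by
  rw [← reeU_cube_eq_one hF.out (t := t) (u := u) (v := v)]
  exact ⟨fun h => congrArg Subtype.val h, fun h => Subtype.ext h⟩

lemma gU_ne_one {t u v : K} (ht : t ≠ 0) : (gU t u v : Gr) ≠ 1 := fun h => ht (gU_cube_iff.1 (by rw [h, one_pow]))

lemma gU_mul (t u v t' u' v' : K) : (gU t u v : Gr) * gU t' u' v' =
    gU (t + t') (u + u' - (t' ^ 3 ^ m) ^ 3 * t) (v + v' - u * t' + (t' ^ 3 ^ m) ^ 3 * t * (t' - t)) := by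
  have h := Cfsg.Agent.Lib.LieTwisted.ReeOut.X_mul hF.out t u v t' u' v'
  simp only [Cfsg.Agent.Lib.LieTwisted.ReeOut.sg_apply] at h
  exact h

/-- The involutions of the coset `U¹a`. -/
lemma gU_a_sq_iff {t u v : K} : (gU t u v * gH (-1) : Gr) ^ 2 = 1 ↔ u = (t ^ 3 ^ m) ^ 3 * t := by
  have h3 : (3 : K) = 0 := CharP.cast_eq_zero K 3
  have hn : ((-t) ^ 3 ^ m) ^ 3 = -((t ^ 3 ^ m) ^ 3) := by
    rw [(odd_pow m).neg_pow, Odd.neg_pow (by decide : Odd 3)]
  rw [pow_two, mul_assoc, ← mul_assoc (gH (-1)), a_gU, mul_assoc, a_sq, mul_one, gU_mul, hn, ← gU_zero]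
  constructor
  · intro h
    obtain ⟨-, h2, -⟩ := gU_inj h
    linear_combination -h2 + u * h3
  · intro h
    subst h
    congr 1
    · exact add_neg_cancel t
    · linear_combination ((t ^ 3 ^ m) ^ 3 * t) * h3
    · linear_combination ((t ^ 3 ^ m) ^ 3 * t * t) * h3

/-- Conjugation keeps elements of `B¹` of 3-singular order in `B¹` only from inside `B¹`. -/
lemma mem_B1_of_conj {x c : Gr} {k : ℕ} (hx : x ^ k ∈ U1 (K := K) m) (hx1 : x ^ k ≠ 1)
    (h : c * x * c⁻¹ ∈ B1 (K := K) m) : c ∈ B1 (K := K) m := by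
  by_contra hc
  exact hx1 (conj_not_B1 hc hx (by rw [← conj_pow]; exact pow_mem h k))

lemma pow_mem_U1_of_B1 {x : Gr} (hx : x ∈ B1 (K := K) m) (hd : orderOf x = 3 ∨ orderOf x = 6 ∨ orderOf x = 9) :
    ∃ k : ℕ, x ^ k ∈ U1 (K := K) m ∧ x ^ k ≠ 1 := by
  refine ⟨2, ?_, fun h => by
    have := Nat.le_of_dvd (by norm_num) (orderOf_dvd_of_pow_eq_one h); omega⟩
  obtain ⟨t, u, v, y, rfl⟩ := mem_B1_iff.1 hx
  by_cases h1 : y = 1
  · subst h1; rw [map_one, mul_one]; exact pow_mem (gU_mem_U1 t u v) 2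
  by_cases h2 : y = -1
  · subst h2
    obtain ⟨a, b, e⟩ := gU_a_sq (m := m) t u v
    rw [e]; exact gU_mem_U1 0 a b
  exfalso
  obtain ⟨c, hc⟩ := isConj_iff.1 (conj_regular (m := m) h1 h2 t u v)
  have hdvd : orderOf (gU t u v * gH y : Gr) ∣ qq m - 1 := by
    rw [← ReeTori.orderOf_conj c, hc]; exact orderOf_dvd_of_pow_eq_one (gH_pow_card y)
  refine (not_three_dvd_qq_pm m).1 (Nat.dvd_trans ?_ hdvd)
  rcases hd with e | e | e <;> rw [e] <;> norm_num

theorem card_order_B1 {n : ℕ} (hn : n = 3 ∨ n = 6 ∨ n = 9) :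
    {g : Gr | orderOf g = n}.ncard * Nat.card ↥(B1 (K := K) m) =
      Nat.card Gr * {x : Gr | x ∈ B1 (K := K) m ∧ orderOf x = n}.ncard := by
  refine card_order_family _ (B1 (K := K) m) (· = n) (fun c hc x hx _ => mul_mem (mul_mem hc hx) (inv_mem hc)) ?_ ?_
  · intro g hg
    have hg' : orderOf g = n := hg
    rcases hn with e | e | e <;> subst e
    · obtain ⟨c, hc⟩ := exists_conj_U1 (z := g) (n := 1) (orderOf_dvd_iff_pow_eq_one.1 (by rw [hg']; norm_num))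
      exact ⟨c, U1_le_B1 hc⟩
    · have h2 : orderOf (g ^ 2) = 3 := by rw [orderOf_pow, hg']; rfl
      obtain ⟨c, hc⟩ := exists_conj_U1 (z := g ^ 2) (n := 1) (orderOf_dvd_iff_pow_eq_one.1 (by rw [h2]; norm_num))
      refine ⟨c, centralizer_U_le_B1 hc ?_ ?_⟩
      · rw [Ne, conj_eq_one_iff]; intro h; rw [h, orderOf_one] at h2; norm_num at h2
      · rw [conj_mul, conj_mul, (Commute.self_pow g 2).eq]
    · obtain ⟨c, hc⟩ := exists_conj_U1 (z := g) (n := 2) (orderOf_dvd_iff_pow_eq_one.1 (by rw [hg']; norm_num))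
      exact ⟨c, U1_le_B1 hc⟩
  · intro x hx hxn c hc
    obtain ⟨k, hk, hk1⟩ := pow_mem_U1_of_B1 hx (by have hxn' : orderOf x = n := hxn; omega)
    exact mem_B1_of_conj hk hk1 hc

lemma gU_order {t u v : K} (h : (gU t u v : Gr) ≠ 1) :
    (t = 0 ∧ orderOf (gU t u v : Gr) = 3) ∨ (t ≠ 0 ∧ orderOf (gU t u v : Gr) = 9) := by
  haveI : Fact (Nat.Prime 3) := ⟨Nat.prime_three⟩
  by_cases ht : t = 0
  · refine Or.inl ⟨ht, ?_⟩
    exact orderOf_eq_prime (gU_cube_iff.2 ht) h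
  · refine Or.inr ⟨ht, ?_⟩
    refine orderOf_eq_prime_pow (p := 3) (n := 1) ?_ (gU_pow_nine t u v)
    rw [pow_one, gU_cube_iff]; exact ht

/-- The elements of `B¹` of order 3, 9, 6 in coordinates. -/
theorem B1_order_cases {x : Gr} (hx : x ∈ B1 (K := K) m) :
    (orderOf x = 3 ↔ ∃ u v, (u, v) ≠ ((0 : K), (0 : K)) ∧ x = gU 0 u v) ∧
    (orderOf x = 9 ↔ ∃ t u v, t ≠ (0 : K) ∧ x = gU t u v) ∧
    (orderOf x = 6 ↔ ∃ t u v, u ≠ (t ^ 3 ^ m) ^ 3 * t ∧ x = gU t u v * gH (-1)) := by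
  obtain ⟨t, u, v, y, rfl⟩ := mem_B1_iff.1 hx
  have hneg : (-1 : Kˣ) ≠ 1 := fun h => by
    have h' := congrArg Units.val h
    simp only [Units.val_neg, Units.val_one] at h'
    have h3 : (3 : K) = 0 := CharP.cast_eq_zero K 3
    exact one_ne_zero (show (1 : K) = 0 by linear_combination h' + h3)
  have huniq : ∀ {t' u' v' : K} {y' : Kˣ}, (gU t u v * gH y : Gr) = gU t' u' v' * gH y' →
      (t = t' ∧ u = u' ∧ v = v') ∧ y = y' := fun h => small_inj h
  by_cases h1 : y = 1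
  · subst h1
    simp only [map_one, mul_one] at huniq ⊢
    have e1 : ∀ t' u' v' : K, (gU t u v : Gr) ≠ gU t' u' v' * gH (-1) := fun t' u' v' h =>
      hneg (huniq h).2.symm
    refine ⟨⟨fun h => ?_, ?_⟩, ⟨fun h => ?_, ?_⟩, ⟨fun h => ?_, ?_⟩⟩
    · have hne : (gU t u v : Gr) ≠ 1 := fun e => by rw [e, orderOf_one] at h; norm_num at h
      rcases gU_order hne with ⟨ht, e⟩ | ⟨ht, e⟩
      · subst ht
        exact ⟨u, v, fun e => hne (by obtain ⟨rfl, rfl⟩ := Prod.mk.inj e; exact gU_zero), rfl⟩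
      · rw [e] at h; norm_num at h
    · rintro ⟨u', v', hne, h⟩
      rw [h]
      refine ((gU_order ?_).resolve_right fun e => e.1 rfl).2
      exact fun e => hne (by obtain ⟨-, rfl, rfl⟩ := gU_inj (e.trans gU_zero.symm); rfl)
    · have hne : (gU t u v : Gr) ≠ 1 := fun e => by rw [e, orderOf_one] at h; norm_num at h
      rcases gU_order hne with ⟨ht, e⟩ | ⟨ht, e⟩
      · rw [e] at h; norm_num at h
      · exact ⟨t, u, v, ht, rfl⟩
    · rintro ⟨t', u', v', ht, h⟩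
      rw [h]
      exact ((gU_order (gU_ne_one ht)).resolve_left fun e => ht e.1).2
    · have := h ▸ orderOf_dvd_of_pow_eq_one (gU_pow_nine (m := m) t u v)
      norm_num at this
    · rintro ⟨t', u', v', -, h⟩
      exact absurd h (e1 t' u' v')
  by_cases h2 : y = -1
  · subst h2
    have hsix := orderOf_dvd_of_pow_eq_one (gU_a_pow_six (m := m) t u v)
    have e1 : ∀ t' u' v' : K, (gU t u v * gH (-1) : Gr) ≠ gU t' u' v' := fun t' u' v' h =>
      h1 (huniq (y' := 1) (by rw [map_one, mul_one]; exact h)).2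
    have hne1 : (gU t u v * gH (-1) : Gr) ≠ 1 := fun h => e1 0 0 0 (by rw [h, gU_zero])
    have hnot3 : orderOf (gU t u v * gH (-1) : Gr) ≠ 3 := by
      intro h
      obtain ⟨a, b, e⟩ := gU_a_sq (m := m) t u v
      have h4 : (gU t u v * gH (-1) : Gr) = gU 0 a b * gU 0 a b := by
        rw [← e, ← pow_add, show 2 + 2 = 3 + 1 from rfl, pow_succ, orderOf_dvd_iff_pow_eq_one.1 h.dvd, one_mul]
      rw [gU0_mul] at h4
      exact e1 _ _ _ h4
    refine ⟨⟨fun h => absurd h hnot3, ?_⟩, ⟨fun h => ?_, ?_⟩, ⟨fun h => ⟨t, u, v, fun e => ?_, rfl⟩, ?_⟩⟩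
    · rintro ⟨u', v', -, h⟩; exact absurd h (e1 _ _ _)
    · rw [h] at hsix; norm_num at hsix
    · rintro ⟨t', u', v', -, h⟩; exact absurd h (e1 _ _ _)
    · have := orderOf_dvd_of_pow_eq_one (gU_a_sq_iff.2 e : (gU t u v * gH (-1) : Gr) ^ 2 = 1)
      rw [h] at this; norm_num at this
    · rintro ⟨t', u', v', hu, h⟩
      obtain ⟨⟨rfl, rfl, rfl⟩, -⟩ := huniq h
      have hmem : orderOf (gU t u v * gH (-1) : Gr) ∈ Nat.divisors 6 := Nat.mem_divisors.2 ⟨hsix, by norm_num⟩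
      rw [show Nat.divisors 6 = {1, 2, 3, 6} by decide] at hmem
      simp only [Finset.mem_insert, Finset.mem_singleton] at hmem
      rcases hmem with e | e | e | e
      · exact absurd (orderOf_eq_one_iff.1 e) hne1
      · exact absurd (gU_a_sq_iff.1 (orderOf_dvd_iff_pow_eq_one.1 e.dvd)) hu
      · exact absurd e hnot3
      · exact e
  obtain ⟨c, hc⟩ := isConj_iff.1 (conj_regular (m := m) h1 h2 t u v)
  have hdvd : orderOf (gU t u v * gH y : Gr) ∣ qq m - 1 := by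
    rw [← ReeTori.orderOf_conj c, hc]; exact orderOf_dvd_of_pow_eq_one (gH_pow_card y)
  have hnd : ∀ n, 3 ∣ n → orderOf (gU t u v * gH y : Gr) ≠ n := fun n hn h =>
    (not_three_dvd_qq_pm m).1 (hn.trans (h ▸ hdvd))
  refine ⟨⟨fun h => absurd h (hnd 3 dvd_rfl), ?_⟩, ⟨fun h => absurd h (hnd 9 (by norm_num)), ?_⟩,
    ⟨fun h => absurd h (hnd 6 (by norm_num)), ?_⟩⟩
  · rintro ⟨u', v', -, h⟩
    exact absurd (huniq (y' := 1) (by rw [map_one, mul_one]; exact h)).2 h1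
  · rintro ⟨t', u', v', -, h⟩
    exact absurd (huniq (y' := 1) (by rw [map_one, mul_one]; exact h)).2 h1
  · rintro ⟨t', u', v', -, h⟩
    exact absurd (huniq h).2 h2

lemma card_K_mul_pos : 0 < qq m ^ 3 * (qq m - 1) := by
  have := qq_ge m
  exact Nat.mul_pos (pow_pos (by omega) 3) (by omega)

lemma ncard_of_iff {α : Type*} [Finite α] (f : α → Gr) (hf : Function.Injective f) (s : Set α) (T : Set Gr)
    (h : ∀ x, x ∈ T ↔ ∃ a ∈ s, f a = x) : T.ncard = s.ncard := by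
  have : T = f '' s := Set.ext fun x => (h x).trans (Set.mem_image _ _ _).symm
  rw [this, Set.ncard_image_of_injective _ hf]

theorem card_B1_order_three : {x : Gr | x ∈ B1 (K := K) m ∧ orderOf x = 3}.ncard = qq m ^ 2 - 1 := by
  classical
  rw [ncard_of_iff (fun p : K × K => (gU 0 p.1 p.2 : Gr)) (fun p q h => Prod.ext (gU_inj h).2.1 (gU_inj h).2.2)
    ({(0, 0)}ᶜ) _ ?_, Set.ncard_compl, Set.ncard_singleton, Nat.card_prod, card_K (m := m), pow_two]
  intro x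
  constructor
  · rintro ⟨hx, h⟩
    obtain ⟨u, v, hne, rfl⟩ := (B1_order_cases hx).1.1 h
    exact ⟨(u, v), hne, rfl⟩
  · rintro ⟨⟨u, v⟩, hne, rfl⟩
    exact ⟨gU_mem_B1 _ _ _, (B1_order_cases (gU_mem_B1 _ _ _)).1.2 ⟨u, v, hne, rfl⟩⟩

theorem card_B1_order_nine : {x : Gr | x ∈ B1 (K := K) m ∧ orderOf x = 9}.ncard = (qq m - 1) * qq m ^ 2 := by
  classical
  rw [ncard_of_iff (fun p : Kˣ × K × K => (gU (p.1 : K) p.2.1 p.2.2 : Gr)) (fun p q h => by
      obtain ⟨a, b, c⟩ := gU_inj h; exact Prod.ext (Units.ext a) (Prod.ext b c))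
    Set.univ _ ?_, Set.ncard_univ, Nat.card_prod, Nat.card_prod, card_units_K (m := m), card_K (m := m), pow_two]
  intro x
  constructor
  · rintro ⟨hx, h⟩
    obtain ⟨t, u, v, ht, rfl⟩ := (B1_order_cases hx).2.1.1 h
    exact ⟨(Units.mk0 t ht, u, v), trivial, rfl⟩
  · rintro ⟨⟨t, u, v⟩, -, rfl⟩
    exact ⟨gU_mem_B1 _ _ _, (B1_order_cases (gU_mem_B1 _ _ _)).2.1.2 ⟨t, u, v, t.ne_zero, rfl⟩⟩

theorem card_B1_order_six : {x : Gr | x ∈ B1 (K := K) m ∧ orderOf x = 6}.ncard = (qq m - 1) * qq m ^ 2 := by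
  classical
  rw [ncard_of_iff (fun p : Kˣ × K × K => (gU p.2.1 ((p.2.1 ^ 3 ^ m) ^ 3 * p.2.1 + p.1) p.2.2 * gH (-1) : Gr))
    (fun p q h => by
      obtain ⟨a, b, c⟩ := gU_inj (mul_right_cancel h)
      refine Prod.ext (Units.ext ?_) (Prod.ext a c)
      rw [a] at b
      exact add_left_cancel b)
    Set.univ _ ?_, Set.ncard_univ, Nat.card_prod, Nat.card_prod, card_units_K (m := m), card_K (m := m), pow_two]
  intro x
  constructor
  · rintro ⟨hx, h⟩
    obtain ⟨t, u, v, hu, rfl⟩ := (B1_order_cases hx).2.2.1 h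
    exact ⟨(Units.mk0 _ (sub_ne_zero.2 hu), t, v), trivial, by simp⟩
  · rintro ⟨⟨t, u, v⟩, -, rfl⟩
    have hmem : (gU u ((u ^ 3 ^ m) ^ 3 * u + t) v * gH (-1) : Gr) ∈ B1 (K := K) m := mem_B1_iff.2 ⟨_, _, _, _, rfl⟩
    exact ⟨hmem, (B1_order_cases hmem).2.2.2 ⟨_, _, _, fun h => t.ne_zero (add_eq_left.1 h), rfl⟩⟩

/-- Elements of orders 3, 9, 6. -/
theorem card_three_nine_six :
    {g : Gr | orderOf g = 3}.ncard = (qq m ^ 2 - 1) * (qq m ^ 3 + 1) ∧
    {g : Gr | orderOf g = 9}.ncard = qq m ^ 2 * (qq m - 1) * (qq m ^ 3 + 1) ∧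
    {g : Gr | orderOf g = 6}.ncard = qq m ^ 2 * (qq m - 1) * (qq m ^ 3 + 1) := by
  have key : ∀ n, n = 3 ∨ n = 6 ∨ n = 9 → ∀ k, {x : Gr | x ∈ B1 (K := K) m ∧ orderOf x = n}.ncard = k →
      {g : Gr | orderOf g = n}.ncard = k * (qq m ^ 3 + 1) := by
    intro n hn k hk
    have h := card_order_B1 (K := K) (m := m) hn
    rw [hk, card_B1, card_G] at h
    refine Nat.eq_of_mul_eq_mul_right (card_K_mul_pos (m := m)) (h.trans ?_)
    ring
  refine ⟨key 3 (by omega) _ card_B1_order_three, ?_, ?_⟩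
  · rw [key 9 (by omega) _ card_B1_order_nine, mul_comm (qq m - 1)]
  · rw [key 6 (by omega) _ card_B1_order_six, mul_comm (qq m - 1)]

end Cfsg.Agent.Lib.ReeTori
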