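import Cfsg.Agent.Lib.Ree.TorusPlusNorm
import Cfsg.Agent.Lib.Ree.TorusT
import Cfsg.Agent.Lib.ReeTori.Count

/-!
The elements of the small Ree group fusing into the tori of orders `q - 1` and `q + 1`.
-/

set_option autoImplicit false

namespace Cfsg.Agent.Lib.ReeTori

open Cfsg.Lie
open Cfsg.Agent.Lib.Ree
open Cfsg.Agent.Lib.LieTwisted Cfsg.Agent.Lib.LieTwisted.Ree
open Cfsg.Agent.Lib.PSLTwo.Sylow (mem_normalizer_of_conj_mem)

variable {K : Type*} [Field K] [CharP K 3] [Fintype K] {m : ℕ} [hF : Fact (Fintype.card K = 3 ^ (2 * m + 1))]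

local notation "Gr" => Cfsg.Agent.Lib.Ree.G K m

/-- A proper multiple of 2 or an odd number has an odd prime factor. -/
lemma exists_odd_prime {n l : ℕ} (hl : Odd l) (hn : n ∣ 2 * l) (h2 : 2 < n) : ∃ r, r.Prime ∧ r ≠ 2 ∧ r ∣ n := by
  obtain ⟨k, hk⟩ := hl
  rcases Nat.even_or_odd' n with ⟨j, rfl | rfl⟩
  · have hj : j ∣ l := Nat.dvd_of_mul_dvd_mul_left (by norm_num) hn
    obtain ⟨r, hr, hrj⟩ := Nat.exists_prime_and_dvd (n := j) (by omega)
    refine ⟨r, hr, fun h => ?_, dvd_mul_of_dvd_right hrj _⟩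
    obtain ⟨c, hc⟩ := (h ▸ hrj).trans hj
    omega
  · obtain ⟨r, hr, hrn⟩ := Nat.exists_prime_and_dvd (n := 2 * j + 1) (by omega)
    refine ⟨r, hr, fun h => ?_, hrn⟩
    obtain ⟨c, hc⟩ := h ▸ hrn
    omega

lemma qq_sub_one_eq (m : ℕ) : qq m - 1 = 2 * ((qq m - 1) / 2) ∧ Odd ((qq m - 1) / 2) := by
  obtain ⟨k, hk, hk'⟩ := half_qq_odd m
  exact ⟨by omega, ⟨k, hk'⟩⟩

lemma exists_power_prime {g : Gr} {r : ℕ} (hr : r.Prime) (h : r ∣ orderOf g) :
    ∃ k, orderOf (g ^ k) = r := ⟨orderOf g / r, orderOf_pow_orderOf_div (orderOf_pos g).ne' h⟩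

/-- Elements with an odd prime divisor of `q - 1` in their order fuse into `H¹`. -/
theorem conj_into_torH {g : Gr} {r : ℕ} (hr : r.Prime) (h2 : r ≠ 2) (hd : r ∣ qq m - 1) (hrg : r ∣ orderOf g) :
    ∃ c : Gr, c * g * c⁻¹ ∈ torH K m := by
  obtain ⟨k, hk⟩ := exists_power_prime hr hrg
  obtain ⟨c, hc⟩ := conj_into_torM hr h2 hd (z := g ^ k) (e := 1) (by rw [hk, pow_one])
  obtain ⟨y, hy⟩ := torM_le hc
  have h1 : (gH y : Gr) ≠ 1 := by
    rw [hy, Ne, conj_eq_one_iff]; intro e; rw [e, orderOf_one] at hk; exact hr.one_lt.ne hk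
  obtain ⟨y1, y2⟩ := regular_of_odd (m := m) (hy ▸ (torM_order hc).1) h1
  refine ⟨c, ?_⟩
  rw [torH, ← centralizer_gH y1 y2, Subgroup.mem_centralizer_singleton_iff, hy, conj_mul, conj_mul,
    (Commute.self_pow g k).eq]

/-- Elements with an odd prime divisor of `q + 1` in their order fuse into `D`. -/
theorem conj_into_torD (hm : 1 ≤ m) {g : Gr} {r : ℕ} (hr : r.Prime) (h2 : r ≠ 2) (hd : r ∣ qq m + 1)
    (hrg : r ∣ orderOf g) : ∃ c : Gr, c * g * c⁻¹ ∈ torD K m := by
  obtain ⟨k, hk⟩ := exists_power_prime hr hrg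
  obtain ⟨c, hc⟩ := conj_into_torA hr h2 hd (z := g ^ k) (e := 1) (by rw [hk, pow_one])
  refine ⟨c, ?_⟩
  rw [← centralizer_torA hm hc ?_, Subgroup.mem_centralizer_singleton_iff, conj_mul, conj_mul,
    (Commute.self_pow g k).eq]
  rw [Ne, conj_eq_one_iff]; intro e; rw [e, orderOf_one] at hk; exact hr.one_lt.ne hk

/-- Elements of `H¹` other than `1, a` are regular. -/
lemma regular_of_order {y : Kˣ} (h : 2 < orderOf (gH y : Gr)) : y ≠ 1 ∧ y ≠ -1 := by
  constructor <;> rintro rfl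
  · rw [map_one, orderOf_one] at h; omega
  · have := Nat.le_of_dvd (by norm_num) (orderOf_dvd_of_pow_eq_one (show (gH (-1) : Gr) ^ 2 = 1 by rw [pow_two, a_sq]))
    omega

lemma torH_TI {x : Gr} (hx : x ∈ torH K m) (h : 2 < orderOf x) {c : Gr} (hc : c * x * c⁻¹ ∈ torH K m) :
    c ∈ Subgroup.normalizer (torM K m : Set Gr) := by
  obtain ⟨y, rfl⟩ := hx
  obtain ⟨y', hy'⟩ := hc
  obtain ⟨a1, a2⟩ := regular_of_order h
  obtain ⟨b1, b2⟩ := regular_of_order (y := y') (m := m) (by rw [hy', ReeTori.orderOf_conj]; exact h)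
  refine mem_normalizer_of_conj_mem fun w hw => ?_
  obtain ⟨v, rfl⟩ := torM_le hw
  obtain ⟨s, rfl⟩ := mem_torM.1 hw
  have hs : c * gH s * c⁻¹ ∈ torH K m := by
    rw [torH, ← centralizer_gH b1 b2, Subgroup.mem_centralizer_singleton_iff, hy', conj_mul, conj_mul,
      ← map_mul, ← map_mul, mul_comm]
  obtain ⟨s', hs'⟩ := hs
  show c * gH (s ^ 2) * c⁻¹ ∈ torM K m
  rw [map_pow, ← conj_pow, ← hs', ← map_pow]
  exact mem_torM.2 ⟨s', rfl⟩

lemma torH_stable (hm : 1 ≤ m) {n : Gr} (hn : n ∈ Subgroup.normalizer (torM K m : Set Gr)) {x : Gr}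
    (hx : x ∈ torH K m) : n * x * n⁻¹ ∈ torH K m := by
  obtain ⟨y, hy, hy1⟩ := exists_torM_ne_one (K := K) hm
  have hy' := (Subgroup.mem_normalizer_iff.1 hn _).1 hy
  obtain ⟨z, hz⟩ := torM_le hy'
  have hz1 : (gH z : Gr) ≠ 1 := by rw [hz, Ne, conj_eq_one_iff]; exact hy1
  obtain ⟨z1, z2⟩ := regular_of_odd (m := m) (hz ▸ (torM_order hy').1) hz1
  obtain ⟨w, rfl⟩ := hx
  rw [torH, ← centralizer_gH z1 z2, Subgroup.mem_centralizer_singleton_iff, hz, conj_mul, conj_mul,
    ← map_mul, ← map_mul, mul_comm]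

lemma card_torH : Nat.card ↥(torH K m) = qq m - 1 := card_gH_range

lemma torH_isCyclic : IsCyclic ↥(torH K m) :=
  isCyclic_of_surjective (gH : Kˣ →* Gr).rangeRestrict (MonoidHom.rangeRestrict_surjective _)

/-- Counting elements fusing into `H¹`. -/
theorem card_family_torH (hm : 1 ≤ m) (P : ℕ → Prop) (hP : ∀ n, P n → n ∣ qq m - 1 ∧ 2 < n) :
    {g : Gr | P (orderOf g)}.ncard * (2 * (qq m - 1)) =
      Nat.card Gr * {x : Gr | x ∈ torH K m ∧ P (orderOf x)}.ncard := by
  rw [← normalizer_torM (K := K) hm]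
  refine card_order_family _ _ P (fun n hn x hx _ => torH_stable hm hn hx) (fun g hg => ?_)
    (fun x hx h c hc => torH_TI hx (hP _ h).2 hc)
  obtain ⟨r, hr, h2, hrg⟩ := exists_odd_prime (qq_sub_one_eq m).2 ((qq_sub_one_eq m).1 ▸ (hP _ hg).1) (hP _ hg).2
  exact conj_into_torH hr h2 (hrg.trans (hP _ hg).1) hrg

lemma torD_pow {x : Gr} (hx : x ∈ torD K m) : x ^ (2 * lP m) = 1 := by
  obtain ⟨k, hk⟩ := mem_torD.1 hx
  have h : (tP K m ^ k) ^ (2 * lP m) = 1 := by
    rw [← pow_mul, mul_comm, pow_mul, orderOf_dvd_iff_pow_eq_one.1 (orderOf_tP (K := K) (m := m)).dvd, one_pow]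
  rcases hk with rfl | rfl
  · exact h
  · rw [((show Commute (invA K m) (tP K m) from invA_comm_phiA _).pow_right k).mul_pow, h, mul_one, pow_mul,
      pow_two, a_sq, one_pow]

lemma sq_mem_torA {x : Gr} (hx : x ∈ torD K m) : x ^ 2 ∈ torA K m :=
  torA_eq (pow_mem hx 2) (by rw [← pow_mul, torD_pow hx])

lemma sq_ne_one_of_order {x : Gr} (h : 2 < orderOf x) : x ^ 2 ≠ 1 := fun e => by
  have := Nat.le_of_dvd (by norm_num) (orderOf_dvd_of_pow_eq_one e); omega

lemma torA_pow {w : Gr} (hw : w ∈ torA K m) : w ^ lP m = 1 := orderOf_dvd_iff_pow_eq_one.1 (torA_order hw)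

lemma torD_TI (hm : 1 ≤ m) {x : Gr} (hx : x ∈ torD K m) (h : 2 < orderOf x) {c : Gr} (hc : c * x * c⁻¹ ∈ torD K m) :
    c ∈ Subgroup.normalizer (torA K m : Set Gr) := by
  refine mem_normalizer_of_conj_mem fun w hw => torA_eq ?_ (by rw [conj_pow, torA_pow hw, mul_one, mul_inv_cancel])
  rw [← centralizer_torA hm (sq_mem_torA hc) (sq_ne_one_of_order (by rw [ReeTori.orderOf_conj]; exact h)),
    Subgroup.mem_centralizer_singleton_iff, conj_pow, conj_mul, conj_mul,
    torD_comm w (torA_le_torD hw) _ (pow_mem hx 2)]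

lemma torD_stable (hm : 1 ≤ m) {n : Gr} (hn : n ∈ Subgroup.normalizer (torA K m : Set Gr)) {x : Gr}
    (hx : x ∈ torD K m) : n * x * n⁻¹ ∈ torD K m := by
  obtain ⟨α, hα, hα1⟩ : ∃ α ∈ torA K m, α ≠ 1 := by
    by_contra hc
    push Not at hc
    have := card_torA (K := K) (m := m)
    rw [(Subgroup.eq_bot_iff_forall _).2 hc, Subgroup.card_bot] at this
    have h1 := qq_ge27 hm
    have h2 := (lP_spec m).1
    omega
  rw [← centralizer_torA hm ((Subgroup.mem_normalizer_iff.1 hn α).1 hα) (by rw [Ne, conj_eq_one_iff]; exact hα1),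
    Subgroup.mem_centralizer_singleton_iff, conj_mul, conj_mul, torD_comm x hx α (torA_le_torD hα)]

/-- Counting elements fusing into `D`. -/
theorem card_family_torD (hm : 1 ≤ m) (P : ℕ → Prop) (hP : ∀ n, P n → n ∣ 2 * lP m ∧ 2 < n) :
    {g : Gr | P (orderOf g)}.ncard * (6 * (qq m + 1)) =
      Nat.card Gr * {x : Gr | x ∈ torD K m ∧ P (orderOf x)}.ncard := by
  rw [← card_normalizer_torA (K := K) hm]
  refine card_order_family _ _ P (fun n hn x hx _ => torD_stable hm hn hx) (fun g hg => ?_)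
    (fun x hx h c hc => torD_TI hm hx (hP _ h).2 hc)
  obtain ⟨r, hr, h2, hrg⟩ := exists_odd_prime (lP_spec m).2.2 (hP _ hg).1 (hP _ hg).2
  refine conj_into_torD hm hr h2 ?_ hrg
  exact (hrg.trans (hP _ hg).1).trans ⟨2, by rw [(lP_spec m).1]; ring⟩

lemma card_pos_split (m : ℕ) : 0 < qq m - 1 ∧ 0 < qq m + 1 := by have := qq_ge m; omega

/-- Elements of a given order dividing `q - 1`. -/
theorem card_order_torH (hm : 1 ≤ m) {i : ℕ} (h2 : 2 < i) (hi : i ∣ qq m - 1) :
    2 * {g : Gr | orderOf g = i}.ncard = Nat.totient i * qq m ^ 3 * (qq m ^ 3 + 1) := by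
  have h := card_family_torH (K := K) hm (fun n => n = i) (fun n hn => by subst hn; exact ⟨hi, h2⟩)
  haveI := torH_isCyclic (K := K) (m := m)
  rw [card_order_cyclic (torH K m) (by rw [card_torH]; exact hi), card_G] at h
  refine Nat.eq_of_mul_eq_mul_right (card_pos_split m).1 (Eq.trans ?_ (h.trans ?_)) <;> ring

/-- Elements of orders `i` and `2i`, `i ∣ (q+1)/4`. -/
theorem card_order_torD (hm : 1 ≤ m) {i : ℕ} (h1 : 1 < i) (hi : i ∣ lP m) :
    6 * {g : Gr | orderOf g = i}.ncard = Nat.totient i * qq m ^ 3 * (qq m - 1) * tT m ∧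
    2 * {g : Gr | orderOf g = 2 * i}.ncard = Nat.totient i * qq m ^ 3 * (qq m - 1) * tT m := by
  classical
  have hodd : Odd i := (lP_spec m).2.2.of_dvd_nat hi
  obtain ⟨j, hj⟩ := hodd
  have hA : {x : Gr | x ∈ torD K m ∧ orderOf x = i} = {x : Gr | x ∈ torA K m ∧ orderOf x = i} := by
    ext x
    exact ⟨fun h => ⟨torA_eq h.1 (orderOf_dvd_iff_pow_eq_one.1 (by rw [h.2]; exact hi)), h.2⟩,
      fun h => ⟨torA_le_torD h.1, h.2⟩⟩
  haveI : IsCyclic ↥(torA K m) := Subgroup.isCyclic_zpowers _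
  have hAc : {x : Gr | x ∈ torA K m ∧ orderOf x = i}.ncard = Nat.totient i :=
    card_order_cyclic (torA K m) (by rw [card_torA]; exact hi)
  refine ⟨?_, ?_⟩
  · have h := card_family_torD (K := K) hm (fun n => n = i)
      (fun n hn => by subst hn; exact ⟨dvd_mul_of_dvd_right hi _, by omega⟩)
    rw [hA, hAc, card_G'] at h
    refine Nat.eq_of_mul_eq_mul_right (card_pos_split m).2 (Eq.trans ?_ (h.trans ?_)) <;> ring
  · have h := card_family_torD (K := K) hm (fun n => n = 2 * i)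
      (fun n hn => by subst hn; exact ⟨Nat.mul_dvd_mul_left 2 hi, by omega⟩)
    have hcount : {x : Gr | x ∈ torD K m ∧ orderOf x = 2 * i}.ncard = 3 * Nat.totient i := by
      have hset : {x : Gr | x ∈ torD K m ∧ orderOf x = 2 * i} =
          (fun p : Gr × Gr => p.1 * p.2) '' (({e : Gr | e ∈ fourE K m} \ {1}) ×ˢ {x : Gr | x ∈ torA K m ∧ orderOf x = i}) := by
        ext x
        constructor
        · rintro ⟨hx, ho⟩
          have hpi : (x ^ i) ^ 2 = 1 := by
            rw [← pow_mul, mul_comm]; exact orderOf_dvd_iff_pow_eq_one.1 ho.dvd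
          have hne : x ^ i ≠ 1 := fun e => by
            have := Nat.le_of_dvd (by omega) (orderOf_dvd_of_pow_eq_one e); omega
          refine ⟨(x ^ i, x ^ i * x), ⟨⟨mem_fourE.2 (torD_sq_one (pow_mem hx i) (by rw [← pow_two]; exact hpi)), hne⟩, ?_, ?_⟩, ?_⟩
          · refine torA_eq (mul_mem (pow_mem hx i) hx) ?_
            obtain ⟨d, hd⟩ := hi
            rw [← pow_succ, ← pow_mul, hd, hj, show (2 * j + 1 + 1) * ((2 * j + 1) * d) = 2 * (2 * j + 1) * ((j + 1) * d) by ring,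
              ← hj, pow_mul, ← ho, pow_orderOf_eq_one, one_pow]
          · show orderOf (x ^ i * x) = i
            rw [← pow_succ, hj, orderOf_pow, ho, hj]
            have : Nat.gcd (2 * (2 * j + 1)) (2 * j + 1 + 1) = 2 := by
              rw [show 2 * j + 1 + 1 = 2 * (j + 1) by ring, Nat.gcd_mul_left]
              have : Nat.gcd (2 * j + 1) (j + 1) = 1 := by
                apply Nat.eq_one_of_dvd_one
                have a := Nat.gcd_dvd_left (2 * j + 1) (j + 1)
                have b := Nat.gcd_dvd_right (2 * j + 1) (j + 1)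
                have := Nat.dvd_sub (b.mul_left 2) a
                rwa [show 2 * (j + 1) - (2 * j + 1) = 1 by omega] at this
              rw [this]
            rw [this]; omega
          · show x ^ i * (x ^ i * x) = x
            rw [← mul_assoc, ← pow_two, hpi, one_mul]
        · rintro ⟨⟨e, a⟩, ⟨⟨he, he1⟩, ha, hao⟩, rfl⟩
          refine ⟨mul_mem he.1 (torA_le_torD ha), ?_⟩
          have hc : Commute e a := torD_comm e he.1 a (torA_le_torD ha)
          haveI : Fact (Nat.Prime 2) := ⟨Nat.prime_two⟩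
          have heo : orderOf e = 2 := orderOf_eq_prime (by rw [pow_two]; exact he.2) he1
          show orderOf (e * a) = 2 * i
          rw [hc.orderOf_mul_eq_mul_orderOf_of_coprime, heo, hao]
          rw [heo, hao, Nat.prime_two.coprime_iff_not_dvd]
          omega
      have hinj : Set.InjOn (fun p : Gr × Gr => p.1 * p.2)
          (({e : Gr | e ∈ fourE K m} \ {1}) ×ˢ {x : Gr | x ∈ torA K m ∧ orderOf x = i}) := by
        rintro ⟨e, a⟩ ⟨⟨he, -⟩, ha, -⟩ ⟨e', a'⟩ ⟨⟨he', -⟩, ha', -⟩ (h : e * a = e' * a')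
        have h' : e'⁻¹ * e = a' * a⁻¹ := by
          rw [eq_mul_inv_iff_mul_eq, mul_assoc, h, inv_mul_cancel_left]
        have h2 := (mul_mem (inv_mem he') he : e'⁻¹ * e ∈ fourE K m).2
        have h3 := torA_pow (h'.symm ▸ mul_mem ha' (inv_mem ha) : e'⁻¹ * e ∈ torA K m)
        obtain ⟨l, hl⟩ := (lP_spec m).2.2
        rw [hl, pow_succ, pow_mul, pow_two, h2, one_pow, one_mul] at h3
        have : e = e' := (inv_mul_eq_one.1 h3).symm
        subst this
        rw [mul_left_cancel h]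
      rw [hset, Set.ncard_image_of_injOn hinj, Set.ncard_prod, hAc,
        Set.ncard_diff_singleton_of_mem (s := {e : Gr | e ∈ fourE K m}) (one_mem (fourE K m))]
      have h4 : {e : Gr | e ∈ fourE K m}.ncard = 4 := card_fourE
      rw [h4]
    rw [hcount, card_G'] at h
    refine Nat.eq_of_mul_eq_mul_right (Nat.mul_pos (by norm_num : 0 < 3) (card_pos_split m).2)
      (Eq.trans ?_ (h.trans ?_)) <;> ring

/-- All elements of orders `> 2` dividing `q - 1`. -/
theorem card_all_torH (hm : 1 ≤ m) :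
    2 * {g : Gr | orderOf g ∣ qq m - 1 ∧ 2 < orderOf g}.ncard = (qq m - 3) * qq m ^ 3 * (qq m ^ 3 + 1) := by
  classical
  have h := card_family_torH (K := K) hm (fun n => n ∣ qq m - 1 ∧ 2 < n) (fun n hn => hn)
  have hset : {x : Gr | x ∈ torH K m ∧ orderOf x ∣ qq m - 1 ∧ 2 < orderOf x} =
      (torH K m : Set Gr) \ {1, invA K m} := by
    ext x
    constructor
    · rintro ⟨hx, -, h⟩
      refine ⟨hx, ?_⟩
      rintro (rfl | rfl)
      · rw [orderOf_one] at h; omega
      · exact sq_ne_one_of_order h (by rw [pow_two]; exact a_sq)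
    · rintro ⟨⟨y, rfl⟩, hx⟩
      refine ⟨⟨y, rfl⟩, orderOf_dvd_of_pow_eq_one (gH_pow_card y), ?_⟩
      by_contra hle
      have hpos := orderOf_pos (gH y : Gr)
      have hy2 : (gH y : Gr) ^ 2 = 1 := orderOf_dvd_iff_pow_eq_one.1 (by
        rcases (show orderOf (gH y : Gr) = 1 ∨ orderOf (gH y : Gr) = 2 by omega) with e | e <;> rw [e]; norm_num)
      rw [← map_pow, ← map_one (gH : Kˣ →* Gr)] at hy2
      rcases mul_self_eq_one_iff.1 (show (y : K) * y = 1 by
        rw [← pow_two]; exact congrArg Units.val (gH_injective hy2)) with e | e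
      · exact hx (Or.inl (by rw [show y = 1 from Units.ext e, map_one]))
      · exact hx (Or.inr (show (gH y : Gr) = gH (-1) by rw [show y = -1 from Units.ext (by simpa using e)]))
  have hsub : ({1, invA K m} : Set Gr) ⊆ (torH K m : Set Gr) :=
    Set.insert_subset (one_mem _) (Set.singleton_subset_iff.2 ⟨-1, rfl⟩)
  rw [hset, Set.ncard_sdiff hsub, Set.ncard_pair (Ne.symm invA_ne_one),
    show (torH K m : Set Gr).ncard = qq m - 1 from card_torH, card_G] at h
  have e : qq m - 1 - 2 = qq m - 3 := by omega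
  rw [e] at h
  refine Nat.eq_of_mul_eq_mul_right (card_pos_split m).1 (Eq.trans ?_ (h.trans ?_)) <;> ring

/-- All elements of orders `> 2` dividing `(q + 1)/2`. -/
theorem card_all_torD (hm : 1 ≤ m) :
    6 * {g : Gr | orderOf g ∣ 2 * lP m ∧ 2 < orderOf g}.ncard = (qq m - 3) * qq m ^ 3 * (qq m - 1) * tT m := by
  classical
  have h := card_family_torD (K := K) hm (fun n => n ∣ 2 * lP m ∧ 2 < n) (fun n hn => hn)
  have hset : {x : Gr | x ∈ torD K m ∧ orderOf x ∣ 2 * lP m ∧ 2 < orderOf x} =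
      (torD K m : Set Gr) \ (fourE K m : Set Gr) := by
    ext x
    constructor
    · rintro ⟨hx, -, h⟩
      exact ⟨hx, fun hx' => sq_ne_one_of_order h (by rw [pow_two]; exact hx'.2)⟩
    · rintro ⟨hx, hx'⟩
      refine ⟨hx, orderOf_dvd_of_pow_eq_one (torD_pow hx), ?_⟩
      by_contra hle
      have hpos := orderOf_pos x
      refine hx' ⟨hx, ?_⟩
      rw [← pow_two]
      exact orderOf_dvd_iff_pow_eq_one.1 (by
        rcases (show orderOf x = 1 ∨ orderOf x = 2 by omega) with e | e <;> rw [e]; norm_num)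
  have hsub : (fourE K m : Set Gr) ⊆ (torD K m : Set Gr) := fun x hx => hx.1
  rw [hset, Set.ncard_sdiff hsub, show (torD K m : Set Gr).ncard = qq m + 1 from card_torD,
    show (fourE K m : Set Gr).ncard = 4 from card_fourE, card_G'] at h
  have e : qq m + 1 - 4 = qq m - 3 := by omega
  rw [e] at h
  refine Nat.eq_of_mul_eq_mul_right (card_pos_split m).2 (Eq.trans ?_ (h.trans ?_)) <;> ring

end Cfsg.Agent.Lib.ReeTori
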