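import Cfsg.Agent.Lib.Ree.Main
import Cfsg.Agent.Lib.ReeTori.Split

/-!
The elements fusing into the two tori of orders `q ∓ 3^(m+1) + 1`.
-/

set_option autoImplicit false

namespace Cfsg.Agent.Lib.ReeTori

open Cfsg.Lie
open Cfsg.Agent.Lib.Ree
open Cfsg.Agent.Lib.LieTwisted Cfsg.Agent.Lib.LieTwisted.Ree
open Cfsg.Agent.Lib.PSLTwo.Sylow (mem_normalizer_of_conj_mem)

variable {K : Type*} [Field K] [CharP K 3] [Fintype K] {m : ℕ} [hF : Fact (Fintype.card K = 3 ^ (2 * m + 1))]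

local notation "Gr" => Cfsg.Agent.Lib.Ree.G K m

/-- `(q - r + 1)(q + r + 1) = q² - q + 1`, `r = 3^(m+1)`. -/
lemma tT_split (m : ℕ) : (qq m - 3 ^ (m + 1) + 1) * (qq m + 3 ^ (m + 1) + 1) = tT m ∧
    Nat.Coprime (qq m - 3 ^ (m + 1) + 1) (qq m + 3 ^ (m + 1) + 1) := by
  have hr : 3 ^ (m + 1) * 3 ^ (m + 1) = 3 * qq m := by rw [← pow_add, qq, ← pow_succ']; congr 1; omega
  have hle : 3 ^ (m + 1) ≤ qq m := Nat.pow_le_pow_right (by norm_num) (by omega)
  have hT := tT_add m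
  have hodd := tT_odd m
  have h3 := not_three_dvd_tT m
  have e : (qq m - 3 ^ (m + 1) + 1) * (qq m + 3 ^ (m + 1) + 1) = tT m := by
    generalize tT m = T at hT ⊢
    generalize 3 ^ (m + 1) = r at hr hle ⊢
    generalize qq m = Q at hr hle hT ⊢
    zify [hle] at hr hT ⊢
    linear_combination -hr - hT
  refine ⟨e, Nat.coprime_of_dvd fun p hp ha hb => ?_⟩
  have hpT : p ∣ tT m := e ▸ ha.mul_right _
  have h2 : p ∣ 2 * 3 ^ (m + 1) := by
    have := Nat.dvd_sub hb ha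
    rwa [show qq m + 3 ^ (m + 1) + 1 - (qq m - 3 ^ (m + 1) + 1) = 2 * 3 ^ (m + 1) by omega] at this
  rcases hp.dvd_mul.1 h2 with h | h
  · rw [(Nat.prime_dvd_prime_iff_eq hp Nat.prime_two).1 h] at hpT
    obtain ⟨k, hk⟩ := hodd
    omega
  · rw [(Nat.prime_dvd_prime_iff_eq hp Nat.prime_three).1 (hp.dvd_of_dvd_pow h)] at hpT
    exact h3 hpT

/-- A torus of order `c`, one of `q ∓ 3^(m+1) + 1`, all elements of order dividing `c` fusing into it. -/
theorem exists_torus (hm : 1 ≤ m) (c : ℕ) (hc : c = qq m - 3 ^ (m + 1) + 1 ∨ c = qq m + 3 ^ (m + 1) + 1) :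
    ∃ x : Gr, IsTElt K m x ∧ Nat.card ↥(Subgroup.centralizer {x}) = c ∧
      Nat.card ↥(Subgroup.normalizer ((Subgroup.centralizer {x} : Subgroup Gr) : Set Gr)) = c * 6 ∧
      ∀ g : Gr, orderOf g ∣ c → ∃ u : Gr, u * g * u⁻¹ ∈ Subgroup.centralizer {x} := by
  obtain ⟨x, y, hx, hy, hNx, hNy, hcx, hcy, hcov⟩ := two_classes (K := K) hm
  obtain ⟨e, hcop⟩ := tT_split m
  have key : ∀ {x y : Gr} {a b : ℕ}, Nat.card ↥(Subgroup.centralizer {y}) = b → Nat.Coprime a b → a ∣ tT m →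
      setT K m ⊆ classT K m x ∪ classT K m y → ∀ g : Gr, orderOf g ∣ a →
      ∃ u : Gr, u * g * u⁻¹ ∈ Subgroup.centralizer {x} := by
    intro x y a b hb hab haT hcov g hg
    by_cases h1 : g = 1
    · exact ⟨1, by rw [h1, mul_one, mul_inv_cancel]; exact one_mem _⟩
    rcases hcov (show g ∈ setT K m from ⟨h1, hg.trans haT⟩) with h | h
    · obtain ⟨u, -, hu, -⟩ := h
      exact ⟨u, hu⟩
    · exact absurd (orderOf_eq_one_iff.1 (Nat.eq_one_of_dvd_coprimes hab hg (hb ▸ dvd_card_of_mem_classT h))) h1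
  rcases hc with rfl | rfl
  · exact ⟨x, hx, hcx, by rw [hNx, hcx], key hcy hcop (e ▸ dvd_mul_right _ _) hcov⟩
  · exact ⟨y, hy, hcy, by rw [hNy, hcy], key hcx hcop.symm (e ▸ dvd_mul_left _ _) (fun g hg => (hcov hg).symm)⟩

/-- Elements of a given order dividing `c`. -/
theorem card_order_torT (hm : 1 ≤ m) {c i : ℕ} (hc : c = qq m - 3 ^ (m + 1) + 1 ∨ c = qq m + 3 ^ (m + 1) + 1)
    (h1 : 1 < i) (hi : i ∣ c) :
    {g : Gr | orderOf g = i}.ncard * (c * 6) = Nat.card Gr * Nat.totient i := by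
  obtain ⟨x, hx, hcard, hN, hcov⟩ := exists_torus (K := K) hm c hc
  haveI := centralizer_T_isCyclic hm hx.1 hx.2 rfl
  have h := card_order_family (Subgroup.centralizer {x})
    (Subgroup.normalizer ((Subgroup.centralizer {x} : Subgroup Gr) : Set Gr)) (fun n => n = i)
    (fun n hn y hy _ => (Subgroup.mem_normalizer_iff.1 hn y).1 hy)
    (fun g hg => hcov g (by rw [show orderOf g = i from hg]; exact hi))
    (fun y hy hyo d hd => mem_normalizer_of_conj_mem fun z hz => by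
      have hy1 : y ≠ 1 := fun e => by
        rw [e, orderOf_one] at hyo
        exact absurd hyo (by omega)
      show d * z * d⁻¹ ∈ Subgroup.centralizer {x}
      rw [← centralizer_T_eq hm hx.1 hx.2 rfl hd (fun e => hy1 (conj_eq_one_iff.1 e)),
        Subgroup.mem_centralizer_singleton_iff, conj_mul, conj_mul]
      rw [← centralizer_T_eq hm hx.1 hx.2 rfl hy hy1, Subgroup.mem_centralizer_singleton_iff] at hz
      rw [hz])
  rw [hN, card_order_cyclic (Subgroup.centralizer {x}) (by rw [hcard]; exact hi)] at h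
  exact h

end Cfsg.Agent.Lib.ReeTori
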