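import Cfsg.Agent.Lib.ReeTori.Phi

/-!
Cyclic subgroups of toral order and their centralisers.
-/

set_option autoImplicit false

namespace Cfsg.Agent.Lib.ReeTori

open Cfsg.Lie
open Cfsg.Agent.Lib.Ree
open Cfsg.Agent.Lib.LieTwisted Cfsg.Agent.Lib.LieTwisted.Ree

variable {K : Type*} [Field K] [CharP K 3] [Fintype K] {m : ℕ} [hF : Fact (Fintype.card K = 3 ^ (2 * m + 1))]

local notation "Gr" => Cfsg.Agent.Lib.Ree.G K m

lemma cover_torM {g : Gr} (hg : orderOf g ∣ (qq m - 1) / 2) : ∃ c : Gr, c * g * c⁻¹ ∈ torM K m := by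
  by_cases h1 : g = 1
  · exact ⟨1, by rw [h1, mul_one, mul_inv_cancel]; exact one_mem _⟩
  obtain ⟨e, hodd⟩ := qq_sub_one_eq m
  obtain ⟨r, hr, hrg⟩ := Nat.exists_prime_and_dvd (n := orderOf g) fun h => h1 (orderOf_eq_one_iff.1 h)
  have h2 : r ≠ 2 := by
    rintro rfl
    obtain ⟨k, hk⟩ := hodd
    have := hrg.trans hg
    omega
  obtain ⟨c, hc⟩ := conj_into_torH hr h2 ((hrg.trans hg).trans ⟨2, by rw [mul_comm]; exact e⟩) hrg
  obtain ⟨y, hy⟩ := hc
  refine ⟨c, ?_⟩
  rw [← hy]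
  obtain ⟨k, hk⟩ := hodd
  refine mem_torM.2 ⟨y ^ (k + 1), gH_injective (K := K) (m := m) ?_⟩
  have hord : (c * g * c⁻¹) ^ (2 * k + 1) = 1 := by
    rw [← orderOf_dvd_iff_pow_eq_one, ReeTori.orderOf_conj, ← hk]; exact hg
  rw [← pow_mul, map_pow, hy, show (k + 1) * 2 = (2 * k + 1) + 1 by ring, pow_succ, hord, one_mul]

lemma cover_torA (hm : 1 ≤ m) {g : Gr} (hg : orderOf g ∣ lP m) : ∃ c : Gr, c * g * c⁻¹ ∈ torA K m := by
  by_cases h1 : g = 1
  · exact ⟨1, by rw [h1, mul_one, mul_inv_cancel]; exact one_mem _⟩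
  obtain ⟨r, hr, hrg⟩ := Nat.exists_prime_and_dvd (n := orderOf g) fun h => h1 (orderOf_eq_one_iff.1 h)
  obtain ⟨k, hk⟩ := (lP_spec m).2.2
  have h2 : r ≠ 2 := by
    rintro rfl
    have := hrg.trans hg
    omega
  obtain ⟨c, hc⟩ := conj_into_torD hm hr h2 ((hrg.trans hg).trans ⟨4, by rw [(lP_spec m).1, mul_comm]⟩) hrg
  exact ⟨c, torA_eq hc (orderOf_dvd_iff_pow_eq_one.1 (by rw [ReeTori.orderOf_conj]; exact hg))⟩

/-- Cyclic subgroups of equal toral order are conjugate. -/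
theorem cyclic_conj (hm : 1 ≤ m) {d : ℕ}
    (hd : d ∣ (qq m - 1) / 2 ∨ d ∣ (qq m + 1) / 4 ∨ d ∣ qq m - 3 ^ (m + 1) + 1 ∨ d ∣ qq m + 3 ^ (m + 1) + 1)
    (A B : Subgroup Gr) (hA : IsCyclic A) (hB : IsCyclic B) (hAd : Nat.card A = d) (hBd : Nat.card B = d) :
    ∃ g : Gr, B = A.map (MulAut.conj g).toMonoidHom := by
  rcases hd with hd | hd | hd | hd
  · exact exists_conj_of_cover _ torM_isCyclic (fun g hg => cover_torM (by rw [hg]; exact hd)) A B hA hB hAd hBd
  · exact exists_conj_of_cover _ (inferInstanceAs (IsCyclic ↥(Subgroup.zpowers (tP K m ^ 2))))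
      (fun g hg => cover_torA hm (by rw [hg]; exact hd)) A B hA hB hAd hBd
  · obtain ⟨x, hx, -, -, hcov⟩ := exists_torus (K := K) hm _ (Or.inl rfl)
    exact exists_conj_of_cover _ (centralizer_T_isCyclic hm hx.1 hx.2 rfl)
      (fun g hg => hcov g (by rw [hg]; exact hd)) A B hA hB hAd hBd
  · obtain ⟨x, hx, -, -, hcov⟩ := exists_torus (K := K) hm _ (Or.inr rfl)
    exact exists_conj_of_cover _ (centralizer_T_isCyclic hm hx.1 hx.2 rfl)
      (fun g hg => hcov g (by rw [hg]; exact hd)) A B hA hB hAd hBd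

/-- A cyclic subgroup of full toral order is a conjugate of the torus. -/
lemma eq_conj_torus (T : Subgroup Gr) (hcov : ∀ g : Gr, orderOf g ∣ Nat.card T → ∃ c : Gr, c * g * c⁻¹ ∈ T)
    {H : Subgroup Gr} (hH : IsCyclic H) (hcard : Nat.card H = Nat.card T) :
    ∃ g : Gr, H = T.map (MulAut.conj g).toMonoidHom := by
  obtain ⟨a, rfl⟩ := (Subgroup.isCyclic_iff_exists_zpowers_eq_top H).1 hH
  obtain ⟨c, hc⟩ := hcov a (by rw [← hcard, Nat.card_zpowers])
  refine ⟨c⁻¹, ?_⟩
  have h : Subgroup.zpowers (c * a * c⁻¹) = T := Subgroup.eq_of_le_of_card_ge (Subgroup.zpowers_le.2 hc)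
    (by rw [← hcard, Nat.card_zpowers, Nat.card_zpowers, ReeTori.orderOf_conj])
  rw [← h, MonoidHom.map_zpowers]
  simp [mul_assoc]

lemma centralizer_le_torM {A : Subgroup Gr} (hA : A ≤ torM K m) (hne : A ≠ ⊥) :
    Subgroup.centralizer (A : Set Gr) = torH K m := by
  obtain ⟨x, hx, hx1⟩ := (Subgroup.bot_or_exists_ne_one A).resolve_left hne
  obtain ⟨y, rfl⟩ := torM_le (hA hx)
  obtain ⟨h1, h2⟩ := regular_of_odd (torM_order (hA hx)).1 hx1
  refine le_antisymm (fun z hz => ?_) ?_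
  · rw [torH, ← centralizer_gH h1 h2, Subgroup.mem_centralizer_singleton_iff]
    exact (Subgroup.mem_centralizer_iff.1 hz _ hx).symm
  · rintro _ ⟨z, rfl⟩
    rw [Subgroup.mem_centralizer_iff]
    intro w hw
    obtain ⟨v, rfl⟩ := torM_le (hA hw)
    rw [← map_mul, ← map_mul, mul_comm]

lemma centralizer_le_torA (hm : 1 ≤ m) {A : Subgroup Gr} (hA : A ≤ torA K m) (hne : A ≠ ⊥) :
    Subgroup.centralizer (A : Set Gr) = torD K m := by
  obtain ⟨x, hx, hx1⟩ := (Subgroup.bot_or_exists_ne_one A).resolve_left hne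
  refine le_antisymm (fun z hz => ?_) (fun z hz => ?_)
  · rw [← centralizer_torA hm (hA hx) hx1, Subgroup.mem_centralizer_singleton_iff]
    exact (Subgroup.mem_centralizer_iff.1 hz _ hx).symm
  · rw [Subgroup.mem_centralizer_iff]
    exact fun w hw => torD_comm w (torA_le_torD (hA hw)) z hz

/-- The centralisers of the cyclic subgroups of orders `(q-1)/2` and `(q+1)/4`. -/
theorem centralizer_toral (hm : 1 ≤ m) (H : Subgroup Gr) (hH : IsCyclic H) :
    (Nat.card H = (qq m - 1) / 2 →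
      IsCyclic ↥(Subgroup.centralizer (H : Set Gr)) ∧
        Nat.card ↥(Subgroup.centralizer (H : Set Gr)) = qq m - 1 ∧
        ∀ A : Subgroup Gr, A ≤ H → A ≠ ⊥ →
          Subgroup.centralizer (A : Set Gr) = Subgroup.centralizer (H : Set Gr)) ∧
    (Nat.card H = (qq m + 1) / 4 →
      IsMulCommutative ↥(Subgroup.centralizer (H : Set Gr)) ∧
        Nat.card ↥(Subgroup.centralizer (H : Set Gr)) = qq m + 1 ∧
        (∀ x ∈ Subgroup.centralizer (H : Set Gr), orderOf x ≠ 4) ∧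
        ∀ A : Subgroup Gr, A ≤ H → A ≠ ⊥ →
          Subgroup.centralizer (A : Set Gr) = Subgroup.centralizer (H : Set Gr)) := by
  have hpull : ∀ (T : Subgroup Gr) (φ : Gr ≃* Gr) (A : Subgroup Gr), A ≤ T.map φ.toMonoidHom → A ≠ ⊥ →
      ∃ A0 : Subgroup Gr, A0 ≤ T ∧ A0 ≠ ⊥ ∧ A = A0.map φ.toMonoidHom := by
    intro T φ A hA hne
    have he : A = (A.comap φ.toMonoidHom).map φ.toMonoidHom :=
      (Subgroup.map_comap_eq_self_of_surjective φ.surjective A).symm
    refine ⟨A.comap φ.toMonoidHom, fun x hx => ?_, fun h => hne (by rw [he, h, Subgroup.map_bot]), he⟩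
    obtain ⟨t, ht, e⟩ := hA (show φ x ∈ A from hx)
    rwa [← φ.injective (show φ t = φ x from e)]
  constructor
  · intro hc
    obtain ⟨g, rfl⟩ := eq_conj_torus (torM K m) (fun a ha => cover_torM (by rwa [card_torM] at ha)) hH
      (by rw [hc, card_torM])
    have hne : torM K m ≠ ⊥ := fun h => by
      obtain ⟨y, hy, hy1⟩ := exists_torM_ne_one (K := K) hm
      rw [h, Subgroup.mem_bot] at hy
      exact hy1 hy
    have hC := centralizer_le_torM (le_refl (torM K m)) hne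
    haveI := torH_isCyclic (K := K) (m := m)
    rw [centralizer_map, hC]
    refine ⟨isCyclic_of_surjective ((MulAut.conj g).toMonoidHom.subgroupMap _) (MonoidHom.subgroupMap_surjective _ _), ?_, ?_⟩
    · rw [Subgroup.card_map_of_injective (MulAut.conj g).injective, card_torH]
    · intro A hA hA1
      obtain ⟨A0, h0, h1, rfl⟩ := hpull _ _ A hA hA1
      rw [centralizer_map, centralizer_le_torM h0 h1]
  · intro hc
    obtain ⟨g, rfl⟩ := eq_conj_torus (torA K m) (fun a ha => cover_torA hm (by rwa [card_torA] at ha)) hH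
      (by rw [hc, card_torA])
    have hne : torA K m ≠ ⊥ := fun h => by
      have := card_torA (K := K) (m := m)
      rw [h, Subgroup.card_bot] at this
      have h1 := qq_ge27 hm
      have h2 := (lP_spec m).1
      omega
    have hC := centralizer_le_torA hm (le_refl (torA K m)) hne
    rw [centralizer_map, hC]
    refine ⟨⟨⟨?_⟩⟩, ?_, ?_, ?_⟩
    · rintro ⟨_, a, ha, rfl⟩ ⟨_, b, hb, rfl⟩
      exact Subtype.ext (by
        show (MulAut.conj g) a * (MulAut.conj g) b = (MulAut.conj g) b * (MulAut.conj g) a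
        rw [← map_mul, ← map_mul, torD_comm a ha b hb])
    · rw [Subgroup.card_map_of_injective (MulAut.conj g).injective, card_torD]
    · rintro _ ⟨a, ha, rfl⟩ h4
      rw [show ((MulAut.conj g).toMonoidHom a) = (MulAut.conj g) a from rfl, MulEquiv.orderOf_eq] at h4
      have hd := orderOf_dvd_of_pow_eq_one (torD_pow ha)
      rw [h4] at hd
      obtain ⟨k, hk⟩ := (lP_spec m).2.2
      omega
    · intro A hA hA1
      obtain ⟨A0, h0, h1, rfl⟩ := hpull _ _ A hA hA1
      rw [centralizer_map, centralizer_le_torA hm h0 h1]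

end Cfsg.Agent.Lib.ReeTori
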