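import Mathlib

/-!
An elementary abelian subgroup normalised by a group which normalises a solvable subgroup.
-/

set_option autoImplicit false

namespace Cfsg.Agent.Lib.ReeTori

variable {Γ : Type*} [Group Γ] [Finite Γ]

/-- `A` is a non-trivial elementary abelian `r`-subgroup. -/
structure IsElem (r : ℕ) (A : Subgroup Γ) : Prop where
  prime : r.Prime
  ne_bot : A ≠ ⊥
  pow_eq_one : ∀ x ∈ A, x ^ r = 1
  comm : ∀ x ∈ A, ∀ y ∈ A, x * y = y * x

lemma IsElem.map {r : ℕ} {A : Subgroup Γ} (h : IsElem r A) (φ : Γ ≃* Γ) : IsElem r (A.map φ.toMonoidHom) where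
  prime := h.prime
  ne_bot := fun e => h.ne_bot ((Subgroup.map_eq_bot_iff_of_injective A φ.injective).1 e)
  pow_eq_one := by
    rintro _ ⟨x, hx, rfl⟩
    rw [← map_pow, h.pow_eq_one x hx, map_one]
  comm := by
    rintro _ ⟨x, hx, rfl⟩ _ ⟨y, hy, rfl⟩
    rw [← map_mul, ← map_mul, h.comm x hx y hy]

lemma IsElem.exists_ne_one {r : ℕ} {A : Subgroup Γ} (h : IsElem r A) : ∃ x ∈ A, x ≠ 1 ∧ orderOf x = r := by
  obtain ⟨x, hx, hx1⟩ := (Subgroup.bot_or_exists_ne_one A).resolve_left h.ne_bot
  haveI := Fact.mk h.prime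
  exact ⟨x, hx, hx1, orderOf_eq_prime (h.pow_eq_one x hx) hx1⟩

/-- A non-trivial solvable subgroup contains such a subgroup normalised by all of its normaliser. -/
theorem exists_isElem : ∀ (n : ℕ) (D : Subgroup Γ), Nat.card D = n → D ≠ ⊥ → Group.IsSolvable D →
    ∃ (r : ℕ) (A : Subgroup Γ), A ≤ D ∧ IsElem r A ∧
      Subgroup.normalizer (D : Set Γ) ≤ Subgroup.normalizer (A : Set Γ) := by
  intro n
  induction n using Nat.strong_induction_on with
  | _ n ih =>
    intro D hn hne hsol
    haveI := hsol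
    by_cases hc : ⁅D, D⁆ = ⊥
    · have hcomm : ∀ x ∈ D, ∀ y ∈ D, x * y = y * x := fun x hx y hy => by
        have := Subgroup.commutator_mem_commutator hx hy
        rw [hc, Subgroup.mem_bot, commutatorElement_def, mul_inv_eq_one, mul_inv_eq_iff_eq_mul] at this
        exact this
      have h1 : Nat.card D ≠ 1 := fun h => hne (Subgroup.card_eq_one.1 h)
      obtain ⟨r, hr, hrd⟩ := Nat.exists_prime_and_dvd h1
      haveI := Fact.mk hr
      let A : Subgroup Γ :=
        { carrier := {x | x ∈ D ∧ x ^ r = 1}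
          one_mem' := ⟨one_mem _, one_pow _⟩
          mul_mem' := fun {a b} ha hb => ⟨mul_mem ha.1 hb.1, by
            rw [(show Commute a b from hcomm a ha.1 b hb.1).mul_pow, ha.2, hb.2, one_mul]⟩
          inv_mem' := fun {a} ha => ⟨inv_mem ha.1, by rw [inv_pow, ha.2, inv_one]⟩ }
      obtain ⟨z, hz⟩ := exists_prime_orderOf_dvd_card' r hrd
      rw [← Subgroup.orderOf_coe] at hz
      refine ⟨r, A, fun x hx => hx.1, ⟨hr, fun h => ?_, fun x hx => hx.2,
        fun x hx y hy => hcomm x hx.1 y hy.1⟩, fun g hg => ?_⟩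
      · have hzA : (z : Γ) ∈ A := ⟨z.2, by rw [← hz, pow_orderOf_eq_one]⟩
        rw [h, Subgroup.mem_bot] at hzA
        rw [hzA, orderOf_one] at hz
        exact hr.one_lt.ne hz
      · rw [Subgroup.mem_normalizer_iff] at hg ⊢
        intro x
        show x ∈ D ∧ x ^ r = 1 ↔ g * x * g⁻¹ ∈ D ∧ (g * x * g⁻¹) ^ r = 1
        rw [conj_pow, conj_eq_one_iff, hg x]
    · have hlt : ⁅D, D⁆ < D := by
        haveI : Nontrivial D := (Subgroup.nontrivial_iff_ne_bot D).2 hne
        refine lt_of_le_of_ne (Subgroup.commutator_le_self D) fun h => ?_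
        have h' := IsSolvable.commutator_lt_top_of_nontrivial ↥D
        rw [← Subgroup.map_lt_map_iff_of_injective (f := D.subtype) D.subtype_injective] at h'
        rw [Subgroup.map_subtype_commutator, h, ← MonoidHom.range_eq_map, Subgroup.range_subtype] at h'
        exact lt_irrefl _ h'
      have hcard : Nat.card ↥⁅D, D⁆ < n := by
        rw [← hn]
        exact Set.ncard_lt_ncard (SetLike.coe_ssubset_coe.2 hlt) (Set.toFinite _)
      haveI : Group.IsSolvable ↥⁅D, D⁆ := Group.isSolvable_of_isSolvable_injective (Subgroup.inclusion_injective hlt.le)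
      obtain ⟨r, A, hA, hel, hN⟩ := ih _ hcard ⁅D, D⁆ rfl hc inferInstance
      refine ⟨r, A, hA.trans hlt.le, hel, le_trans (fun g hg => ?_) hN⟩
      rw [Subgroup.mem_normalizer_iff_map_conj_eq] at hg ⊢
      rw [Subgroup.map_commutator, hg]

end Cfsg.Agent.Lib.ReeTori
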