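import Cfsg.Agent.Lib.ReeTori.Conjugacy
import Cfsg.Agent.Lib.ReeTori.ElemNormal
import Cfsg.Agent.Lib.LieTwisted.ReeBruhat

/-!
Solvable subgroups of the small Ree group normalise one of the standard subgroups.
-/

set_option autoImplicit false

open scoped Pointwise

namespace Cfsg.Agent.Lib.ReeTori

open Cfsg.Lie
open Cfsg.Agent.Lib.Ree
open Cfsg.Agent.Lib.LieTwisted Cfsg.Agent.Lib.LieTwisted.Ree

variable {K : Type*} [Field K] [CharP K 3] [Fintype K] {m : ℕ} [hF : Fact (Fintype.card K = 3 ^ (2 * m + 1))]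

local notation "Gr" => Cfsg.Agent.Lib.Ree.G K m

/-- The subgroups in the conclusion. -/
def IsStd (A : Subgroup Gr) : Prop :=
  (∃ P : Sylow 2 Gr, A = P) ∨ (∃ P : Sylow 3 Gr, A = P) ∨
    (IsCyclic A ∧ (Nat.card A = (qq m - 1) / 2 ∨ Nat.card A = (qq m + 1) / 4 ∨
      Nat.card A = qq m - 3 ^ (m + 1) + 1 ∨ Nat.card A = qq m + 3 ^ (m + 1) + 1))

/-- `S` normalises a subgroup of the conclusion. -/
def Good (S : Subgroup Gr) : Prop := ∃ A : Subgroup Gr, S ≤ Subgroup.normalizer (A : Set Gr) ∧ IsStd A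

lemma normalizer_map (T : Subgroup Gr) (φ : Gr ≃* Gr) :
    Subgroup.normalizer ((T.map φ.toMonoidHom : Subgroup Gr) : Set Gr) =
      (Subgroup.normalizer (T : Set Gr)).map φ.toMonoidHom :=
  (Subgroup.map_equiv_normalizer_eq T φ).symm

/-- Passing from a conjugate of `A₀` inside a torus to the conjugate torus. -/
lemma good_of_torus {S A : Subgroup Gr} (hS : S ≤ Subgroup.normalizer (A : Set Gr)) (T : Subgroup Gr) (hT : IsCyclic T)
    (hcard : Nat.card T = (qq m - 1) / 2 ∨ Nat.card T = (qq m + 1) / 4 ∨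
      Nat.card T = qq m - 3 ^ (m + 1) + 1 ∨ Nat.card T = qq m + 3 ^ (m + 1) + 1) (c : Gr)
    (hN : Subgroup.normalizer ((A.map (MulAut.conj c).toMonoidHom : Subgroup Gr) : Set Gr) =
      Subgroup.normalizer (T : Set Gr)) : Good S := by
  refine ⟨T.map (MulAut.conj c⁻¹).toMonoidHom, fun s hs => ?_, Or.inr (Or.inr ⟨?_, ?_⟩)⟩
  · rw [normalizer_map, ← hN, normalizer_map, Subgroup.map_map]
    refine ⟨s, hS hs, ?_⟩
    simp [mul_assoc]
  · haveI := hT
    exact isCyclic_of_surjective ((MulAut.conj c⁻¹).toMonoidHom.subgroupMap T) (MonoidHom.subgroupMap_surjective _ _)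
  · rwa [Subgroup.card_map_of_injective (MulAut.conj c⁻¹).injective]

/-- The case of odd primes. -/
theorem good_of_odd (hm : 1 ≤ m) {S A : Subgroup Gr} {r : ℕ} (hA : IsElem r A) (h2 : r ≠ 2)
    (hS : S ≤ Subgroup.normalizer (A : Set Gr)) : Good S := by
  have hr := hA.prime
  haveI := Fact.mk hr
  obtain ⟨x, hx, hx1, hxo⟩ := hA.exists_ne_one
  by_cases h3 : r = 3
  · subst h3
    obtain ⟨P, hP⟩ := (show IsPGroup 3 A from fun a => ⟨1, Subtype.ext (by
      rw [Subgroup.coe_pow, pow_one]; exact hA.pow_eq_one _ a.2)⟩).exists_le_sylow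
    refine ⟨P, fun s hs => ?_, Or.inr (Or.inl ⟨P, rfl⟩)⟩
    have hfix : s • P = P := by
      by_contra hne
      have hbot := sylow_TI hF.out (s • P) P hne
      refine hx1 (Subgroup.mem_bot.1 (hbot ▸ ⟨?_, hP hx⟩))
      show x ∈ ((s • P : Sylow 3 Gr) : Subgroup Gr)
      rw [Sylow.smul_def, Sylow.pointwise_smul_def, Subgroup.mem_pointwise_smul_iff_inv_smul_mem]
      show (MulAut.conj s)⁻¹ x ∈ (P : Subgroup Gr)
      rw [MulAut.conj_inv_apply]
      exact hP ((Subgroup.mem_normalizer_iff''.1 (hS hs) x).1 hx)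
    exact Sylow.smul_eq_iff_mem_normalizer.1 hfix
  have hdiv : r ∣ Nat.card Gr := hxo ▸ orderOf_dvd_natCard x
  rw [card_G'] at hdiv
  have hmem : ∀ c : Gr, ∀ w ∈ A.map (MulAut.conj c).toMonoidHom,
      w ^ r = 1 ∧ w * (c * x * c⁻¹) = c * x * c⁻¹ * w := fun c w hw =>
    ⟨(hA.map _).pow_eq_one w hw, (hA.map _).comm w hw _ ⟨x, hx, rfl⟩⟩
  have hne : ∀ c : Gr, c * x * c⁻¹ ≠ 1 := fun c h => hx1 (conj_eq_one_iff.1 h)
  rcases hr.dvd_mul.1 hdiv with h | h
  · rcases hr.dvd_mul.1 h with h | h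
    · rcases hr.dvd_mul.1 h with h | h
      · exact absurd (hr.dvd_of_dvd_pow h) (prime_not_dvd_qq hr h3)
      · obtain ⟨c, hc⟩ := conj_into_torM hr h2 h (z := x) (e := 1) (by rw [hxo, pow_one])
        refine good_of_torus hS (torM K m) torM_isCyclic (Or.inl card_torM) c
          (normalizer_sub_torM (fun w hw => ?_) ((hA.map _).ne_bot))
        obtain ⟨y, hy⟩ := torM_le hc
        obtain ⟨y1, y2⟩ := regular_of_odd (m := m) (hy ▸ (torM_order hc).1) (hy ▸ hne c)
        have hwH : w ∈ Subgroup.centralizer {(gH y : Gr)} := by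
          rw [Subgroup.mem_centralizer_singleton_iff, hy]; exact (hmem c w hw).2
        rw [centralizer_gH y1 y2] at hwH
        obtain ⟨z, rfl⟩ := hwH
        obtain ⟨k, hk⟩ := hr.odd_of_ne_two h2
        refine mem_torM.2 ⟨z ^ (k + 1), gH_injective (K := K) (m := m) ?_⟩
        rw [← pow_mul, map_pow, show (k + 1) * 2 = 2 * k + 1 + 1 by ring, pow_succ, ← hk, (hmem c _ hw).1, one_mul]
    · obtain ⟨c, hc⟩ := conj_into_torA hr h2 h (z := x) (e := 1) (by rw [hxo, pow_one])
      refine good_of_torus hS (torA K m) (inferInstanceAs (IsCyclic ↥(Subgroup.zpowers (tP K m ^ 2))))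
        (Or.inr (Or.inl card_torA)) c (normalizer_sub_torA hm (fun w hw => torA_eq ?_ ?_) ((hA.map _).ne_bot))
      · rw [← centralizer_torA hm hc (hne c), Subgroup.mem_centralizer_singleton_iff]
        exact (hmem c w hw).2
      · rw [(lP_spec m).1] at h
        obtain ⟨k, hk⟩ := (hr.dvd_mul.1 h).resolve_left fun h4 =>
          h2 ((Nat.prime_dvd_prime_iff_eq hr Nat.prime_two).1 (hr.dvd_of_dvd_pow (show r ∣ 2 ^ 2 from h4)))
        rw [hk, pow_mul, (hmem c w hw).1, one_pow]
  · rw [← (tT_split m).1] at h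
    obtain ⟨d, hd, hrd⟩ : ∃ d, (d = qq m - 3 ^ (m + 1) + 1 ∨ d = qq m + 3 ^ (m + 1) + 1) ∧ r ∣ d := by
      rcases hr.dvd_mul.1 h with h | h
      · exact ⟨_, Or.inl rfl, h⟩
      · exact ⟨_, Or.inr rfl, h⟩
    obtain ⟨x₀, hx₀, hcard, -, hcov⟩ := exists_torus (K := K) hm d hd
    obtain ⟨c, hc⟩ := hcov x (hxo ▸ hrd)
    refine good_of_torus hS _ (centralizer_T_isCyclic hm hx₀.1 hx₀.2 rfl) ?_ c
      (normalizer_sub_T hm hx₀.1 hx₀.2 rfl (fun w hw => ?_) ((hA.map _).ne_bot))
    · rcases hd with rfl | rfl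
      · exact Or.inr (Or.inr (Or.inl hcard))
      · exact Or.inr (Or.inr (Or.inr hcard))
    · rw [← centralizer_T_eq hm hx₀.1 hx₀.2 rfl hc (hne c), Subgroup.mem_centralizer_singleton_iff]
      exact (hmem c w hw).2

/-- A subgroup of order four is determined by two of its involutions. -/
lemma four_eq {A B : Subgroup Gr} (hA : Nat.card A = 4) (hB : Nat.card B = 4) {a e : Gr} (ha : a * a = 1)
    (he : e * e = 1) (ha1 : a ≠ 1) (he1 : e ≠ 1) (hae : a ≠ e) (h1 : a ∈ A) (h2 : e ∈ A) (h3 : a ∈ B) (h4 : e ∈ B) :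
    A = B := by
  classical
  have key : ∀ C : Subgroup Gr, Nat.card C = 4 → a ∈ C → e ∈ C → (C : Set Gr) = ({1, a, e, a * e} : Set Gr) := by
    intro C hC haC heC
    refine (Set.eq_of_subset_of_ncard_le ?_ ?_ (Set.toFinite _)).symm
    · rintro z (rfl | rfl | rfl | rfl)
      exacts [one_mem C, haC, heC, mul_mem haC heC]
    · rw [show ((C : Set Gr)).ncard = 4 from hC]
      rw [Set.ncard_insert_of_notMem, Set.ncard_insert_of_notMem, Set.ncard_pair]
      · exact fun h => ha1 (mul_eq_right.1 h.symm)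
      · rintro (h | h)
        · exact hae h
        · exact he1 (mul_eq_left.1 h.symm)
      · rintro (h | h | h)
        · exact ha1 h.symm
        · exact he1 h.symm
        · exact hae (mul_left_cancel (a := a) (ha.trans h))
  exact SetLike.coe_injective ((key A hA h1 h2).trans (key B hB h3 h4).symm)

/-- The elements of order two commuting with `u = gU 0 1 0` form a set of at most one element. -/
lemma eq_of_commute_u {s t : Gr} (hs : s * gU 0 1 0 = gU 0 1 0 * s) (ht : t * gU 0 1 0 = gU 0 1 0 * t)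
    (hs2 : s * s = 1) (ht2 : t * t = 1) (hs1 : s ≠ 1) (ht1 : t ≠ 1) (hst : s * t = t * s) : s = t := by
  haveI : Fact (Nat.Prime 2) := ⟨Nat.prime_two⟩
  have hu1 : (gU 0 1 0 : Gr) ≠ 1 := fun h => by
    rw [← gU_zero] at h; exact one_ne_zero (gU_inj h).2.1
  have hU : ∀ s : Gr, s * gU 0 1 0 = gU 0 1 0 * s → s * s = 1 → s ≠ 1 → ∃ w ∈ U1 (K := K) m, s = w * gH (-1) := by
    intro s hs hs2 hs1
    obtain ⟨t, u, v, h | h⟩ := centralizer_gU (gU_mem_U1 0 1 0) hu1 hs
    · have hd := orderOf_dvd_of_pow_eq_one (show s ^ 9 = 1 by rw [h, gU_pow_nine])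
      rw [orderOf_eq_prime (p := 2) (by rw [pow_two]; exact hs2) hs1] at hd
      norm_num at hd
    · exact ⟨_, gU_mem_U1 t u v, h⟩
  by_contra hne
  obtain ⟨a, ha, rfl⟩ := hU s hs hs2 hs1
  obtain ⟨b, hb, rfl⟩ := hU t ht ht2 ht1
  obtain ⟨p, u, v, rfl⟩ := mem_U1.1 hb
  set w := a * (gH (-1) * gU p u v * gH (-1)) with hw
  have hwU : w ∈ U1 (K := K) m := by
    refine mul_mem ha ?_
    rw [a_gU, mul_assoc, a_sq, mul_one]
    exact gU_mem_U1 _ _ _
  have hwe : w = a * gH (-1) * (gU p u v * gH (-1)) := by rw [hw]; simp only [mul_assoc]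
  obtain ⟨p', u', v', hw'⟩ := mem_U1.1 hwU
  have h9 : w ^ 9 = 1 := by rw [hw', gU_pow_nine]
  have h2 : w ^ 2 = 1 := by
    rw [hwe, (show Commute _ _ from hst).mul_pow, pow_two, pow_two, hs2, ht2, one_mul]
  have h1 : w = 1 := by
    have := pow_gcd_eq_one.2 ⟨h9, h2⟩
    norm_num at this
    exact this
  rw [hwe] at h1
  exact hne (by rw [eq_inv_of_mul_eq_one_left h1, inv_eq_of_mul_eq_one_right ht2])

lemma exists_conj_sylE (hm : 1 ≤ m) {A : Subgroup Gr} (hA : IsElem 2 A) :
    ∃ c : Gr, invA K m ∈ A.map (MulAut.conj c).toMonoidHom ∧ A.map (MulAut.conj c).toMonoidHom ≤ sylE K m := by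
  haveI : Fact (Nat.Prime 2) := ⟨Nat.prime_two⟩
  obtain ⟨x, hx, hx1, -⟩ := hA.exists_ne_one
  obtain ⟨E, hE⟩ := exists_sylE (K := K) (m := m)
  obtain ⟨S, hS⟩ := (show IsPGroup 2 A from fun a => ⟨1, Subtype.ext (by
      rw [Subgroup.coe_pow, pow_one]; exact hA.pow_eq_one _ a.2)⟩).exists_le_sylow
  obtain ⟨g, hg⟩ := MulAction.exists_smul_eq Gr S E
  have hSE : ∀ y ∈ A, g * y * g⁻¹ ∈ sylE K m := by
    intro y hy
    rw [← hE, ← hg, Sylow.smul_def, Sylow.pointwise_smul_def, Subgroup.mem_pointwise_smul_iff_inv_smul_mem]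
    show (MulAut.conj g)⁻¹ (g * y * g⁻¹) ∈ (S : Subgroup Gr)
    rw [MulAut.conj_inv_apply]
    simpa [mul_assoc] using hS hy
  have horb := card_orbit_invA hm (hSE x hx) (fun h => hx1 (conj_eq_one_iff.1 h))
  obtain ⟨n, hn, e⟩ : invA K m ∈ cOrb (normE K m) (g * x * g⁻¹) := by
    rw [horb]; exact ⟨invA_mem_sylE, invA_ne_one⟩
  refine ⟨n * g, ⟨x, hx, ?_⟩, ?_⟩
  · rw [← e]; simp [mul_assoc]
  · rintro _ ⟨y, hy, rfl⟩
    have := mem_sylE_conj hn (hSE y hy)
    simpa [mul_assoc] using this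

/-- All fours groups are conjugate. -/
theorem four_conj (hm : 1 ≤ m) {A : Subgroup Gr} (hA : IsElem 2 A) (h4 : Nat.card A = 4) :
    ∃ c : Gr, A.map (MulAut.conj c).toMonoidHom = fourE K m := by
  classical
  set u := (gU 0 1 0 : Gr) with hu
  set a := invA K m with ha
  have key : ∀ {A B : Subgroup Gr}, Nat.card A = 4 → Nat.card B = 4 → invA K m ∈ A → invA K m ∈ B → A ≤ sylE K m →
      B ≤ sylE K m → ∃ c : Gr, A.map (MulAut.conj c).toMonoidHom = B := by
    intro A B hA hB haA haB hAE hBE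
    have pick : ∀ {A : Subgroup Gr}, Nat.card A = 4 → ∃ e ∈ A, e ≠ 1 ∧ e ≠ a := by
      intro A hA
      by_contra hc
      push Not at hc
      have : (A : Set Gr) ⊆ {1, a} := fun z hz => by
        by_cases h : z = 1
        · exact Or.inl h
        · exact Or.inr (hc z hz h)
      have h := Set.ncard_le_ncard this (Set.toFinite _)
      rw [Set.ncard_pair invA_ne_one.symm, show (A : Set Gr).ncard = 4 from hA] at h
      omega
    obtain ⟨e, heA, he1, hea⟩ := pick hA
    obtain ⟨i, hiB, hi1, hia⟩ := pick hB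
    have huN : u ∈ normE K m ∧ u * a = a * u :=
      ⟨u_mem_normE.1, Subgroup.mem_centralizer_singleton_iff.1 u_mem_normE.2⟩
    have hu3 : u ^ 3 = 1 := gU_pow_three_zero 1 0
    obtain ⟨P, hP⟩ := exists_sylE (K := K) (m := m)
    have hsq : ∀ z ∈ sylE K m, z * z = 1 := fun z hz => sylow_two_exponent P z (show z ∈ (P : Subgroup Gr) by rw [hP]; exact hz)
    obtain ⟨f, hf⟩ : ∃ f : Gr ≃* Gr, ∀ z, f z = u * z * u⁻¹ := ⟨MulAut.conj u, fun z => rfl⟩
    have hfE : ∀ z ∈ sylE K m, f z ∈ sylE K m := fun z hz => hf z ▸ mem_sylE_conj huN.1 hz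
    have hfa : f a = a := by rw [hf, huN.2, mul_inv_cancel_right]
    have hfinj : Function.Injective f := f.injective
    have hf1 : ∀ z, f z = 1 → z = 1 := fun z h => hfinj (h.trans (map_one f).symm)
    have hf3 : ∀ z, f (f (f z)) = z := fun z => by
      calc f (f (f z)) = u ^ 3 * z * (u ^ 3)⁻¹ := by simp only [hf, pow_succ, pow_zero, one_mul, mul_inv_rev, mul_assoc]
        _ = z := by rw [hu3, one_mul, inv_one, mul_one]
    have hfmul : ∀ y z, f (y * z) = f y * f z := map_mul f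
    have haa : a * a = 1 := a_sq
    -- `f` fixes no further element and no further coset of `⟨a⟩`
    have hfi : f i ≠ i := by
      intro h
      have hc : i * u = u * i := (mul_inv_eq_iff_eq_mul.1 ((hf i).symm.trans h)).symm
      exact hia (eq_of_commute_u hc huN.2.symm (hsq i (hBE hiB)) haa hi1 invA_ne_one
        (sylE_comm i (hBE hiB) a invA_mem_sylE))
    have hfia : f i ≠ i * a := by
      intro h
      have h2 : f (f i) = i := by rw [h, hfmul, hfa, h, mul_assoc, haa, mul_one]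
      exact hfi (by have := hf3 i; rwa [h2] at this)
    have hffi : f (f i) ≠ i := fun h => hfi (by have := hf3 i; rwa [h] at this)
    have hffia : f (f i) ≠ i * a := fun h => by
      have := hf3 i
      rw [h, hfmul, hfa] at this
      exact hfia (by
        calc f i = f i * a * a := by rw [mul_assoc, haa, mul_one]
          _ = i * a := by rw [this])
    let F : Finset Gr := {i, i * a, f i, f i * a, f (f i), f (f i) * a}
    have hne : ∀ z : Gr, z * a ≠ z := fun z h => invA_ne_one (mul_eq_left.1 h)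
    have hfia' : f i * a ≠ i := fun h => hfia (by
      calc f i = f i * a * a := by rw [mul_assoc, haa, mul_one]
        _ = i * a := by rw [h])
    have hffia' : f (f i) * a ≠ i := fun h => hffia (by
      calc f (f i) = f (f i) * a * a := by rw [mul_assoc, haa, mul_one]
        _ = i * a := by rw [h])
    have hF : F.card = 6 := by
      have k1 : f i * a ≠ i * a := fun h => hfi (mul_right_cancel h)
      have k2 : f (f i) * a ≠ i * a := fun h => hffi (mul_right_cancel h)
      have k3 : f (f i) ≠ f i := fun h => hfi (hfinj h)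
      have k4 : f (f i) * a ≠ f i * a := fun h => k3 (mul_right_cancel h)
      have k5 : f (f i) ≠ f i * a := fun h => hfia (hfinj (by rw [h, hfmul, hfa]))
      have k6 : f (f i) * a ≠ f i := fun h => hfia' (hfinj (by rw [hfmul, hfa]; exact h))
      simp only [F]
      rw [Finset.card_insert_of_notMem, Finset.card_insert_of_notMem, Finset.card_insert_of_notMem,
        Finset.card_insert_of_notMem, Finset.card_pair]
      · exact (hne _).symm
      · simp only [Finset.mem_insert, Finset.mem_singleton, not_or]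
        exact ⟨k5.symm, k4.symm⟩
      · simp only [Finset.mem_insert, Finset.mem_singleton, not_or]
        exact ⟨(hne _).symm, k3.symm, k6.symm⟩
      · simp only [Finset.mem_insert, Finset.mem_singleton, not_or]
        exact ⟨hfia.symm, k1.symm, hffia.symm, k2.symm⟩
      · simp only [Finset.mem_insert, Finset.mem_singleton, not_or]
        exact ⟨(hne _).symm, hfi.symm, hfia'.symm, hffi.symm, hffia'.symm⟩
    have hiE := hBE hiB
    have haE : a ∈ sylE K m := invA_mem_sylE
    have hsub : (F : Set Gr) ⊆ (sylE K m : Set Gr) \ {1, a} := by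
      have good : ∀ z ∈ sylE K m, z ≠ 1 → z ≠ a → z ∈ (sylE K m : Set Gr) \ {1, a} ∧
          z * a ∈ (sylE K m : Set Gr) \ {1, a} := by
        intro z hz h1 h2
        refine ⟨⟨hz, ?_⟩, mul_mem hz haE, ?_⟩
        · rintro (h | h)
          exacts [h1 h, h2 h]
        · rintro (h | h)
          · exact h2 ((eq_inv_of_mul_eq_one_left h).trans (inv_eq_of_mul_eq_one_right haa))
          · exact h1 (mul_eq_right.1 h)
      have g0 := good i hiE hi1 hia
      have g1 := good (f i) (hfE i hiE) (fun h => hi1 (hf1 _ h))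
        (fun h => hia (hfinj (h.trans hfa.symm)))
      have g2 := good (f (f i)) (hfE _ (hfE i hiE)) (fun h => hi1 (hf1 _ (hf1 _ h)))
        (fun h => hia (hfinj (hfinj (by rw [h, hfa, hfa]))))
      intro z hz
      simp only [F, Finset.coe_insert, Finset.coe_singleton, Set.mem_insert_iff, Set.mem_singleton_iff] at hz
      rcases hz with rfl | rfl | rfl | rfl | rfl | rfl
      exacts [g0.1, g0.2, g1.1, g1.2, g2.1, g2.2]
    have heq : (F : Set Gr) = (sylE K m : Set Gr) \ {1, a} := by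
      refine Set.eq_of_subset_of_ncard_le hsub ?_ (Set.toFinite _)
      rw [Set.ncard_sdiff (by rintro z (rfl | rfl); exacts [one_mem _, haE]) (Set.toFinite _),
        show (sylE K m : Set Gr).ncard = 8 from card_sylE, Set.ncard_pair invA_ne_one.symm, Set.ncard_coe_finset, hF]
    have hmem : e ∈ (F : Set Gr) := by
      rw [heq]
      exact ⟨hAE heA, fun h => h.elim he1 hea⟩
    obtain ⟨k, hk⟩ : ∃ k : ℕ, e = u ^ k * i * (u ^ k)⁻¹ ∨ e = u ^ k * (i * a) * (u ^ k)⁻¹ := by
      simp only [F, Finset.coe_insert, Finset.coe_singleton, Set.mem_insert_iff, Set.mem_singleton_iff] at hmem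
      have h2 : ∀ z, f (f z) = u ^ 2 * z * (u ^ 2)⁻¹ := fun z => by
        simp only [hf, pow_two, mul_inv_rev, mul_assoc]
      rcases hmem with h | h | h | h | h | h
      · exact ⟨0, Or.inl (by simpa using h)⟩
      · exact ⟨0, Or.inr (by simpa using h)⟩
      · exact ⟨1, Or.inl (by rw [pow_one, h, hf])⟩
      · exact ⟨1, Or.inr (by rw [h, pow_one, ← hf, hfmul, hfa])⟩
      · exact ⟨2, Or.inl (by rw [h, h2])⟩
      · exact ⟨2, Or.inr (by rw [h, ← h2, hfmul, hfmul, hfa, hfa])⟩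
    have hka : (u ^ k)⁻¹ * a * u ^ k = a := by
      rw [mul_assoc, ((show Commute u a from huN.2).pow_left k).eq.symm, inv_mul_cancel_left]
    refine ⟨(u ^ k)⁻¹, four_eq (by rw [Subgroup.card_map_of_injective (MulAut.conj (u ^ k)⁻¹).injective, hA]) hB haa
      (hsq i hiE) invA_ne_one hi1 hia.symm ⟨a, haA, ?_⟩ ?_ haB hiB⟩
    · show (u ^ k)⁻¹ * a * (u ^ k)⁻¹⁻¹ = a
      rw [inv_inv]; exact hka
    rcases hk with hk | hk
    · refine ⟨e, heA, ?_⟩
      show (u ^ k)⁻¹ * e * (u ^ k)⁻¹⁻¹ = i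
      rw [hk]; group
    · refine ⟨e * a, mul_mem heA haA, ?_⟩
      show (u ^ k)⁻¹ * (e * a) * (u ^ k)⁻¹⁻¹ = i
      calc (u ^ k)⁻¹ * (e * a) * (u ^ k)⁻¹⁻¹ = ((u ^ k)⁻¹ * e * u ^ k) * ((u ^ k)⁻¹ * a * u ^ k) := by group
        _ = i * a * a := by rw [hka, hk]; group
        _ = i := by rw [mul_assoc, haa, mul_one]
  have hfour : IsElem 2 (fourE K m) :=
    { prime := Nat.prime_two
      ne_bot := fun h => by
        have := card_fourE (K := K) (m := m)
        rw [h, Subgroup.card_bot] at this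
        omega
      pow_eq_one := fun x hx => by rw [pow_two]; exact hx.2
      comm := fun x hx y hy => torD_comm x hx.1 y hy.1 }
  obtain ⟨c, hc, hcE⟩ := exists_conj_sylE hm hA
  obtain ⟨d, hd, hdE⟩ := exists_conj_sylE hm hfour
  obtain ⟨g, hg⟩ := key (by rw [Subgroup.card_map_of_injective (MulAut.conj c).injective, h4])
    (by rw [Subgroup.card_map_of_injective (MulAut.conj d).injective, card_fourE]) hc hd hcE hdE
  refine ⟨d⁻¹ * g * c, ?_⟩
  have h := congrArg (Subgroup.map (MulAut.conj d⁻¹).toMonoidHom) hg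
  rw [Subgroup.map_map, Subgroup.map_map, Subgroup.map_map] at h
  convert h using 1
  · congr 1
    ext z
    simp [mul_assoc]
  · convert (Subgroup.map_id (fourE K m)).symm using 2
    ext z
    simp [mul_assoc]

/-- The case of the prime two. -/
theorem good_of_two (hm : 1 ≤ m) {S A : Subgroup Gr} (hA : IsElem 2 A) (h : 2 < Nat.card A)
    (hS : S ≤ Subgroup.normalizer (A : Set Gr)) : Good S := by
  haveI : Fact (Nat.Prime 2) := ⟨Nat.prime_two⟩
  obtain ⟨P, hP⟩ := (show IsPGroup 2 A from fun a => ⟨1, Subtype.ext (by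
      rw [Subgroup.coe_pow, pow_one]; exact hA.pow_eq_one _ a.2)⟩).exists_le_sylow
  have hdvd := Subgroup.card_dvd_of_le hP
  rw [show Nat.card ↥(P : Subgroup Gr) = 8 from card_sylow_two P] at hdvd
  obtain ⟨j, hj, hj'⟩ := (Nat.dvd_prime_pow Nat.prime_two).1 (show Nat.card A ∣ 2 ^ 3 from hdvd)
  rcases (show j = 0 ∨ j = 1 ∨ j = 2 ∨ j = 3 by omega) with e | e | e | e <;> rw [e] at hj'
  · rw [hj'] at h; norm_num at h
  · rw [hj'] at h; norm_num at h
  · obtain ⟨c, hc⟩ := four_conj hm hA hj'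
    exact good_of_torus hS (torA K m) (inferInstanceAs (IsCyclic ↥(Subgroup.zpowers (tP K m ^ 2))))
      (Or.inr (Or.inl card_torA)) c (by rw [hc, normalizer_torA hm])
  · refine ⟨A, hS, Or.inl ⟨P, Subgroup.eq_of_le_of_card_ge hP ?_⟩⟩
    rw [hj']
    exact (card_sylow_two P).le

/-- The case of a central involution. -/
theorem good_of_invol (hm : 1 ≤ m) {S : Subgroup Gr} (hsol : Group.IsSolvable S) {x : Gr} (hx1 : x ≠ 1)
    (hx2 : x * x = 1) (hS : ∀ s ∈ S, s * x = x * s) : Good S := by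
  classical
  haveI : Fact (Nat.Prime 2) := ⟨Nat.prime_two⟩
  haveI := hsol
  obtain ⟨c, hc⟩ := isConj_iff.1 (isConj_invA hm hx1 hx2)
  -- `c` moves `invA` to `x`
  let L : Subgroup Gr :=
    ((psiA : Matrix.ProjectiveSpecialLinearGroup (Fin 2) K →* Gr).range).map (MulAut.conj c).toMonoidHom
  have hxC : ∀ z : Gr, z * x = x * z → ∃ l ∈ L, z = l ∨ z = x * l := by
    intro z hz
    have hz' : c⁻¹ * z * c ∈ Subgroup.centralizer {invA K m} := by
      rw [Subgroup.mem_centralizer_singleton_iff]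
      calc c⁻¹ * z * c * invA K m = c⁻¹ * (z * (c * invA K m * c⁻¹)) * c := by group
        _ = c⁻¹ * ((c * invA K m * c⁻¹) * z) * c := by rw [hc, hz]
        _ = _ := by group
    obtain ⟨y, hy⟩ := centralizer_split hz'
    refine ⟨c * psiA y * c⁻¹, ⟨psiA y, ⟨y, rfl⟩, rfl⟩, ?_⟩
    rcases hy with hy | hy
    · left; rw [← hy]; group
    · right; rw [← hc, conj_mul, ← hy]; group
  have hLx : ∀ l ∈ L, l * x = x * l := by
    rintro _ ⟨_, ⟨y, rfl⟩, rfl⟩
    show c * psiA y * c⁻¹ * x = x * (c * psiA y * c⁻¹)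
    rw [← hc, conj_mul, conj_mul, invA_comm_psiA]
  have hxL : x ∉ L := by
    rintro ⟨_, ⟨y, rfl⟩, h⟩
    exact invA_not_range ⟨y, (MulAut.conj c).injective (h.trans hc.symm)⟩
  -- `R = S⟨x⟩`
  let φ : ↥S × ↥(Subgroup.zpowers x) →* Gr :=
    { toFun := fun p => (p.1 : Gr) * p.2
      map_one' := by simp
      map_mul' := fun p q => by
        obtain ⟨k, hk⟩ := p.2.2
        have hcm : Commute (q.1 : Gr) (p.2 : Gr) := by
          rw [← hk]; exact (show Commute (q.1 : Gr) x from hS _ q.1.2).zpow_right k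
        show (p.1 : Gr) * q.1 * (p.2 * q.2) = p.1 * p.2 * (q.1 * q.2)
        simp only [mul_assoc]
        rw [← mul_assoc (q.1 : Gr), hcm.eq, mul_assoc] }
  set R := φ.range with hR
  haveI : Group.IsSolvable ↥(Subgroup.zpowers x) :=
    Group.isSolvable_of_comm fun a b => by
      letI : CommGroup ↥(Subgroup.zpowers x) := IsCyclic.commGroup
      exact mul_comm a b
  haveI : Group.IsSolvable ↥R := Group.isSolvable_of_surjective φ.rangeRestrict_surjective
  have hSR : S ≤ R := fun s hs => ⟨(⟨s, hs⟩, 1), mul_one s⟩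
  have hxR : x ∈ R := ⟨(1, ⟨x, Subgroup.mem_zpowers x⟩), one_mul x⟩
  have hRx : ∀ r ∈ R, r * x = x * r := by
    rintro _ ⟨⟨⟨s, hs⟩, ⟨t, ht⟩⟩, rfl⟩
    obtain ⟨k, rfl⟩ := ht
    exact ((show Commute s x from hS s hs).mul_left ((Commute.refl x).zpow_left k)).eq
  set D := R ⊓ L with hD
  have hRD : R ≤ Subgroup.normalizer (D : Set Gr) := by
    intro r hr
    refine Cfsg.Agent.Lib.PSLTwo.Sylow.mem_normalizer_of_conj_mem fun w hw => ?_
    have hwR : r * w * r⁻¹ ∈ R := mul_mem (mul_mem hr (show w ∈ R from hw.1)) (inv_mem hr)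
    refine ⟨hwR, ?_⟩
    obtain ⟨l, hl, h | h⟩ := hxC r (hRx r hr)
    · subst h
      show r * w * r⁻¹ ∈ L
      exact mul_mem (mul_mem hl (show w ∈ L from hw.2)) (inv_mem hl)
    · subst h
      show x * l * w * (x * l)⁻¹ ∈ L
      have hmem : l * w * l⁻¹ ∈ L := mul_mem (mul_mem hl (show w ∈ L from hw.2)) (inv_mem hl)
      rwa [show x * l * w * (x * l)⁻¹ = x * (l * w * l⁻¹) * x⁻¹ by group, ← hLx _ hmem, mul_inv_cancel_right]
  by_cases hbot : D = ⊥
  · have hSx : ∀ s ∈ S, s = 1 ∨ s = x := by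
      intro s hs
      obtain ⟨l, hl, h | h⟩ := hxC s (hS s hs)
      · have hsD : s ∈ D := ⟨hSR hs, h.symm ▸ hl⟩
        rw [hbot, Subgroup.mem_bot] at hsD
        exact Or.inl hsD
      · have hlR : l ∈ R := by
          have : x * s ∈ R := mul_mem hxR (hSR hs)
          rwa [h, ← mul_assoc, hx2, one_mul] at this
        refine Or.inr ?_
        have hlD : l ∈ D := ⟨hlR, hl⟩
        rw [hbot, Subgroup.mem_bot] at hlD
        rw [h, hlD, mul_one]
    obtain ⟨P, hP⟩ := (IsPGroup.of_card (p := 2) (G := ↥(Subgroup.zpowers x)) (n := 1)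
      (by rw [Nat.card_zpowers, pow_one, orderOf_eq_prime (by rw [pow_two]; exact hx2) hx1])).exists_le_sylow
    refine ⟨P, fun s hs => ?_, Or.inl ⟨P, rfl⟩⟩
    rcases hSx s hs with rfl | rfl
    · exact one_mem _
    · exact Subgroup.le_normalizer (hP (Subgroup.mem_zpowers s))
  haveI : Group.IsSolvable ↥D := Group.isSolvable_of_isSolvable_injective (Subgroup.inclusion_injective inf_le_left)
  obtain ⟨r, A, hAD, hA, hN⟩ := exists_isElem _ D rfl hbot inferInstance
  by_cases h2 : r = 2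
  · subst h2
    -- adjoin `x`
    have hcm : ∀ w ∈ A, w * x = x * w := fun w hw => hRx w (hAD hw).1
    let A' : Subgroup Gr :=
      { carrier := {z | ∃ w ∈ A, z = w ∨ z = x * w}
        one_mem' := ⟨1, one_mem _, Or.inl rfl⟩
        mul_mem' := by
          rintro p q ⟨v, hv, hp⟩ ⟨w, hw, hq⟩
          rcases hp with hp | hp <;> rcases hq with hq | hq <;> rw [hp, hq]
          · exact ⟨_, mul_mem hv hw, Or.inl rfl⟩
          · exact ⟨_, mul_mem hv hw, Or.inr (by rw [← mul_assoc, hcm v hv, mul_assoc])⟩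
          · exact ⟨_, mul_mem hv hw, Or.inr (mul_assoc _ _ _)⟩
          · refine ⟨_, mul_mem hv hw, Or.inl ?_⟩
            rw [mul_assoc, ← mul_assoc v, hcm v hv, ← mul_assoc, ← mul_assoc, hx2, one_mul]
        inv_mem' := by
          rintro p ⟨v, hv, hp⟩
          rcases hp with hp | hp <;> rw [hp]
          · exact ⟨_, inv_mem hv, Or.inl rfl⟩
          · refine ⟨_, inv_mem hv, Or.inr ?_⟩
            rw [mul_inv_rev, inv_eq_of_mul_eq_one_right hx2]
            exact (show Commute v x from hcm v hv).inv_left.eq }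
    have hAA : A ≤ A' := fun w hw => ⟨w, hw, Or.inl rfl⟩
    have hxA' : x ∈ A' := ⟨1, one_mem _, Or.inr (mul_one x).symm⟩
    have hel : IsElem 2 A' := by
      refine ⟨Nat.prime_two, fun h => hA.ne_bot (le_bot_iff.1 (h ▸ hAA)), ?_, ?_⟩
      · rintro _ ⟨w, hw, rfl | rfl⟩
        · exact hA.pow_eq_one _ hw
        · rw [(show Commute x w from (hcm w hw).symm).mul_pow, hA.pow_eq_one w hw, pow_two, hx2, one_mul]
      · rintro _ ⟨v, hv, rfl | rfl⟩ _ ⟨w, hw, rfl | rfl⟩
        · exact hA.comm _ hv _ hw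
        · exact ((show Commute _ x from hcm _ hv).mul_right (hA.comm _ hv _ hw)).eq
        · exact ((show Commute x _ from (hcm _ hw).symm).mul_left (hA.comm _ hv _ hw)).eq
        · exact (((Commute.refl x).mul_right (hcm w hw).symm).mul_left
            ((show Commute v x from hcm v hv).mul_right (hA.comm v hv w hw))).eq
    have hbig : 2 < Nat.card A' := by
      obtain ⟨w, hw, hw1, -⟩ := hA.exists_ne_one
      have hsub : ({1, x, w} : Set Gr) ⊆ (A' : Set Gr) := by
        rintro z (rfl | rfl | rfl)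
        exacts [one_mem A', hxA', hAA hw]
      have h := Set.ncard_le_ncard hsub (Set.toFinite _)
      rw [Set.ncard_insert_of_notMem, Set.ncard_pair] at h
      · exact h
      · rintro rfl; exact hxL (hAD hw).2
      · rintro (h1 | h1)
        exacts [hx1 h1.symm, hw1 h1.symm]
    refine good_of_two hm hel hbig fun s hs =>
      Cfsg.Agent.Lib.PSLTwo.Sylow.mem_normalizer_of_conj_mem ?_
    rintro _ ⟨w, hw, rfl | rfl⟩
    · exact hAA ((Subgroup.mem_normalizer_iff.1 (hN (hRD (hSR hs))) _).1 hw)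
    · refine ⟨s * w * s⁻¹, (Subgroup.mem_normalizer_iff.1 (hN (hRD (hSR hs))) _).1 hw, Or.inr ?_⟩
      show s * (x * w) * s⁻¹ = x * (s * w * s⁻¹)
      rw [← mul_assoc, hS s hs]; simp only [mul_assoc]
  · exact good_of_odd hm hA h2 fun s hs => hN (hRD (hSR hs))

/-- Every solvable subgroup normalises a Sylow 2- or 3-subgroup or a cyclic Hall subgroup. -/
theorem solvable_good (hm : 1 ≤ m) (S : Subgroup Gr) (hsol : Group.IsSolvable S) : Good S := by
  haveI : Fact (Nat.Prime 3) := ⟨Nat.prime_three⟩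
  by_cases hS : S = ⊥
  · obtain ⟨P, -⟩ := exists_sylow_U1 (K := K) (m := m)
    exact ⟨P, by rw [hS]; exact bot_le, Or.inr (Or.inl ⟨P, rfl⟩)⟩
  obtain ⟨r, A, hAS, hA, hN⟩ := exists_isElem _ S rfl hS hsol
  have hSN : S ≤ Subgroup.normalizer (A : Set Gr) := fun s hs => hN (Subgroup.le_normalizer hs)
  by_cases h2 : r = 2
  · subst h2
    obtain ⟨x, hx, hx1, hxo⟩ := hA.exists_ne_one
    by_cases hbig : 2 < Nat.card A
    · exact good_of_two hm hA hbig hSN
    refine good_of_invol hm hsol hx1 (by rw [← pow_two]; exact hA.pow_eq_one x hx) fun s hs => ?_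
    have hset : ({1, x} : Set Gr) = (A : Set Gr) := by
      refine Set.eq_of_subset_of_ncard_le ?_ ?_ (Set.toFinite _)
      · rintro z (rfl | rfl)
        exacts [one_mem A, hx]
      · rw [Set.ncard_pair hx1.symm, show (A : Set Gr).ncard = Nat.card A from rfl]
        omega
    have : s * x * s⁻¹ ∈ ({1, x} : Set Gr) := by
      rw [hset]; exact (Subgroup.mem_normalizer_iff.1 (hSN hs) x).1 hx
    rcases this with h | h
    · exact absurd (conj_eq_one_iff.1 h) hx1
    · exact mul_inv_eq_iff_eq_mul.1 h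
  · exact good_of_odd hm hA h2 hSN

end Cfsg.Agent.Lib.ReeTori
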